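import Groth.Agent.L29.GV.DualExact
import Groth.Agent.L07.BvdB.FibreNakayama
import Groth.Agent.L18.LocFreeFP
import Groth.Agent.L22.ExtSh.DepthExt
import Groth.Agent.L02.CMMor.Local
import Groth.Agent.L16.CohClosedPush
import Groth.Agent.L29.DCoh.PCStalk

/-!
On a Cohen–Macaulay scheme a perfect object whose cohomology has supports of large codimension has no gaps in its
fibre dimensions.
-/

set_option autoImplicit false
set_option linter.style.haveILetI false
set_option backward.isDefEq.respectTransparency false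
set_option backward.isDefEq.respectTransparency.types false

universe u

open CategoryTheory CategoryTheory.Limits AlgebraicGeometry Opposite CochainComplex CategoryTheory.Abelian

attribute [local instance] HasDerivedCategory.standard

noncomputable section

namespace Groth.L29.GV

open Groth.L29.DC Groth.L29.DC.Fib

variable {X : Scheme.{u}}

/-- the stalk of the structure sheaf -/
def unitStalk (x : X) :
    (Groth.L00.Stk.F X x).obj (Coh.structureModule X) ≅ ModuleCat.of (X.presheaf.stalk x) (X.presheaf.stalk x) :=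
  (LinearEquiv.ofBijective
      (LinearMap.toSpanSingleton (X.presheaf.stalk x) ((Coh.structureModule X).presheaf.stalk x) (Groth.L22.oneGerm x))
      ⟨(injective_iff_map_eq_zero _).2 fun a ha => Groth.L22.eq_zero_of_smul_oneGerm ha,
        Groth.L22.stalk_smul_oneGerm_surjective x⟩).symm.toModuleIso

set_option maxHeartbeats 1600000 in
/-- a vanishing Betti number above the bound of the codimensions of supports forces the next one to vanish -/
theorem betti_succ_eq_zero [IsLocallyNoetherian X] [∀ x : X, DCoh.HasLpull (X.fromSpecResidueField x)]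
    (hCM : ∀ x : X, LocCoh.IsCohenMacaulayLocalRing (X.presheaf.stalk x)) (E : DCoh.D X) (hE : DCoh.IsPerfect E)
    (k' : ℤ) (hsupp : ∀ (j : ℤ) (y : X), y ∈ CohB1.support (DCoh.HD E j) →
      ((j - k').toNat : WithBot ℕ∞) ≤ ringKrullDim (X.presheaf.stalk y))
    (x : X) (i : ℤ) (hik : k' ≤ i) (hx : PerfD.betti E x i = 0) : PerfD.betti E x (i + 1) = 0 := by
  obtain ⟨U, j, _, P, n, α, hxU, hP, hα, he⟩ := exists_model_of_perfect E hE x
  obtain ⟨u, rfl⟩ := hxU
  haveI := hα
  haveI : IsLocallyNoetherian U := LocallyOfFiniteType.isLocallyNoetherian j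
  haveI := Groth.L00.KFlat.hasLpull (lpt j u)
  letI := stalkField (pt (j u)) (isField_stalk_pt _)
  let v := lpt j u (pt (j u))
  let ρ := Groth.L00.PullStalk.φ (lpt j u) (pt (j u))
  have hdd : ∀ a b d (w : (Φ ρ).obj (P.X a)), ((Φ ρ).map (P.d b d)).hom (((Φ ρ).map (P.d a b)).hom w) = 0 :=
    fun a b d w => by rw [← map_comp_apply, HomologicalComplex.d_comp_d, Functor.map_zero]; rfl
  -- exactness of the fibre in degree `i`
  have hex : ∀ w : (Φ ρ).obj (P.X i), ((Φ ρ).map (P.d i (i + 1))).hom w = 0 →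
      ∃ z, ((Φ ρ).map (P.d (i - 1) i)).hom z = w := by
    intro w hw
    have h := betti_add_rkp j E hP n (fun i => (he i).some) (Approx.of_isIso α (i - 1)) u
      (show i - 1 < i by omega)
    rw [hx, zero_add] at h
    haveI : FiniteDimensional ((Spec (X.residueField (j u))).presheaf.stalk (pt (j u))) ((Φ ρ).obj (P.X i)) :=
      finiteDimensional_Φ_of_iso ρ (he i).some
    have hn := finrank_Φ_of_iso ρ (he i).some
    let f := ((Φ ρ).map (P.d (i - 1) i)).hom
    let g := ((Φ ρ).map (P.d i (i + 1))).hom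
    have hrn := g.finrank_range_add_finrank_ker
    have hle : LinearMap.range f ≤ LinearMap.ker g := by
      rintro _ ⟨z, rfl⟩
      exact hdd _ _ _ z
    change Module.finrank _ (LinearMap.range f) + Module.finrank _ (LinearMap.range g) = n i at h
    have heq : LinearMap.range f = LinearMap.ker g :=
      Submodule.eq_of_le_of_finrank_eq hle (by omega)
    exact LinearMap.mem_range.1 (heq ▸ (LinearMap.mem_ker.2 hw : w ∈ LinearMap.ker g))
  obtain ⟨h, c, hc, hh⟩ := exists_pseudo ρ (he i).some (he (i + 1)).some (P.d i (i + 1))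
  obtain ⟨h', c', hc', hh'⟩ := exists_pseudo ρ (he (i - 1)).some (he i).some (P.d (i - 1) i)
  let uu : P.X i ⟶ P.X i := P.d i (i + 1) ≫ h + h' ≫ P.d (i - 1) i
  have huu : ∀ w : (Φ ρ).obj (P.X i), ((Φ ρ).map uu).hom w =
      ((Φ ρ).map h).hom (((Φ ρ).map (P.d i (i + 1))).hom w) +
        ((Φ ρ).map (P.d (i - 1) i)).hom (((Φ ρ).map h').hom w) := fun w => by
    simp only [uu]
    rw [Functor.map_add, ModuleCat.hom_add, LinearMap.add_apply, map_comp_apply, map_comp_apply]
  have hinj : Function.Injective ((Φ ρ).map uu).hom := by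
    rw [injective_iff_map_eq_zero]
    intro w hw
    have h1 := congrArg ((Φ ρ).map (P.d i (i + 1))).hom hw
    rw [huu, map_add, hdd, hh, add_zero, map_zero] at h1
    have hdw := (smul_eq_zero.1 h1).resolve_left hc
    obtain ⟨z, rfl⟩ := hex w hdw
    rw [huu, hdd, map_zero, zero_add, hh'] at hw
    exact (smul_eq_zero.1 hw).resolve_left hc'
  obtain ⟨W, hW, hWiso⟩ := exists_isIso_nhd ρ (he i).some (he i).some uu hinj
  let S := Groth.L00.Stk.F U v
  haveI : IsIso (S.map uu) := by
    have := hWiso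
    let y : (W : Scheme.{u}) := ⟨v, hW⟩
    haveI : IsIso ((Groth.L21.Mod.stalkF U (W.ι y)).map uu) :=
      (NatIso.isIso_map_iff (Groth.L21.Mod.restrictStalkF W.ι y) uu).1
        (inferInstanceAs (IsIso ((Groth.L21.Mod.stalkF (W : Scheme.{u}) y).map
          ((Scheme.Modules.restrictFunctor W.ι).map uu))))
    haveI : IsIso ((forget₂ (ModuleCat.{u} (U.presheaf.stalk v)) AddCommGrpCat.{u}).map (S.map uu)) :=
      (NatIso.isIso_map_iff (Groth.L00.Stk.forgetIso (X := U) v) uu).2
        (inferInstanceAs (IsIso ((Groth.L21.Mod.stalkF U (W.ι y)).map uu)))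
    exact isIso_of_reflects_iso (S.map uu) (forget₂ (ModuleCat.{u} (U.presheaf.stalk v)) AddCommGrpCat.{u})
  let C := (S.mapHomologicalComplex (ComplexShape.up ℤ)).obj P
  have hfree : ∀ l, Module.Free (U.presheaf.stalk v) (C.X l) := fun l => Groth.L18.LFP.free_stalk _ (hP.2 l) v
  have hfin : ∀ l, Module.Finite (U.presheaf.stalk v) (C.X l) := fun l =>
    Groth.L18.LFP.finite_stalk _ (Groth.L18.LFP.isFP_of_isFinLocFree _ (hP.2 l)) v
  haveI := hfree
  haveI := hfin
  have hsurj : Function.Surjective ((S.map h).hom.comp (S.map (P.d i (i + 1))).hom +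
      (S.map (P.d (i - 1) i)).hom.comp (S.map h').hom) := fun w => by
    obtain ⟨z, hz⟩ := (ConcreteCategory.bijective_of_isIso (S.map uu)).2 w
    refine ⟨z, Eq.trans ?_ hz⟩
    simp only [uu, Functor.map_add, Functor.map_comp]
    rfl
  haveI : Module.Finite (U.presheaf.stalk v) (S.obj (P.X i)) := hfin i
  haveI : Module.Free (U.presheaf.stalk v) (S.obj (P.X (i + 1))) := hfree (i + 1)
  obtain ⟨r, hr⟩ := exists_regular_inverse (S.map (P.d (i - 1) i)).hom (S.map (P.d i (i + 1))).hom
    (S.map h).hom (S.map h').hom hsurj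
    (by rw [← ModuleCat.hom_comp, ← S.map_comp, P.d_comp_d, S.map_zero]; rfl)
  -- the grade of the cohomology
  obtain ⟨⟨lo, hi, hv⟩, -⟩ := id hP
  have hgrade : ∀ (l : ℤ) (q : ℕ), (q : ℤ) < l - k' →
      Subsingleton (Ext (C.homology l) (ModuleCat.of (U.presheaf.stalk v) (U.presheaf.stalk v)) q) := by
    intro l q hq
    let G := DCoh.HD ((DCoh.restrictD j).obj E) l
    refine subsingleton_ext_congr ((P.sc l).mapHomologyIso S ≪≫
      S.mapIso (((DerivedCategory.homologyFunctorFactors _ l).app P).symm ≪≫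
        (DerivedCategory.homologyFunctor _ l).mapIso (asIso α))) (unitStalk v).symm ?_
    refine Groth.L22.ExtSh.subsingleton_ext_stalk_of_depth (n := (l - k').toNat)
      (Groth.L29.CohSupp.isCohD_of_perfect (EvalMain.isPerfect_restrictD j hE) l)
      Groth.L16.CohClosedPush.isCoh_structure (fun w hw => ?_) v (by omega)
    have hw' : j w ∈ CohB1.support (DCoh.HD E l) :=
      (Groth.L21.Mod.support_restrict j _).subset ((Groth.L21.Mod.support_congr (HDResIso j E l)).subset hw)
    haveI := hCM (j w)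
    let e : X.presheaf.stalk (j w) ≃+* U.presheaf.stalk w := (asIso (j.stalkMap w)).commRingCatIsoToRingEquiv
    have h1 := hsupp l (j w) hw'
    rw [← Module.supportDim_self_eq_ringKrullDim,
      LocCoh.IsCohenMacaulayLocalRing.supportDim_eq_depth (R := X.presheaf.stalk (j w))] at h1
    rw [show LocCoh.depth (U.presheaf.stalk w) ((Coh.structureModule U).presheaf.stalk w) =
      LocCoh.depth (U.presheaf.stalk w) (U.presheaf.stalk w) from
        Groth.L04.idealDepth_congr (unitStalk w).toLinearEquiv,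
      Groth.L06.FlatFibre.depth_eq_of_ringEquiv e]
    exact WithBot.coe_le_coe.1 h1
  let r' : C.X (i + 1) ⟶ C.X i := ModuleCat.ofHom r
  obtain ⟨s, hs⟩ := exists_split hi (fun l hl => S.map_isZero (hv l (Or.inr hl))) hfree hfin k' hgrade i hik
    r' (ModuleCat.hom_ext hr)
  -- exactness of the fibre in degree `i + 1`
  let Eρ := ModuleCat.extendScalars ρ
  have h1 : LinearMap.ker ((Φ ρ).map (P.d (i + 1) (i + 2))).hom ≤ LinearMap.range ((Φ ρ).map (P.d i (i + 1))).hom := by
    intro w hw
    have h2 := ConcreteCategory.congr_hom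
      (show Eρ.map (r') ≫ Eρ.map (C.d i (i + 1)) + Eρ.map (C.d (i + 1) (i + 2)) ≫ Eρ.map s = 𝟙 _ by
        rw [← Eρ.map_comp, ← Eρ.map_comp, ← Eρ.map_add, hs, Eρ.map_id]) w
    have h3 : (Eρ.map (C.d (i + 1) (i + 2))).hom w = 0 := hw
    refine ⟨(Eρ.map (r')).hom w, Eq.trans ?_ h2⟩
    change (Eρ.map (C.d i (i + 1))).hom ((Eρ.map (r')).hom w) =
      (Eρ.map (C.d i (i + 1))).hom ((Eρ.map (r')).hom w) +
        (Eρ.map s).hom ((Eρ.map (C.d (i + 1) (i + 2))).hom w)
    rw [h3, map_zero, add_zero]
  haveI : FiniteDimensional ((Spec (X.residueField (j u))).presheaf.stalk (pt (j u))) ((Φ ρ).obj (P.X (i + 1))) :=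
    finiteDimensional_Φ_of_iso ρ (he (i + 1)).some
  have h4 := ((Φ ρ).map (P.d (i + 1) (i + 2))).hom.finrank_range_add_finrank_ker
  have h5 := Submodule.finrank_mono h1
  have h6 := betti_add_rkp j E hP n (fun i => (he i).some) (Approx.of_isIso α i) u (show i < i + 1 by omega)
  rw [add_sub_cancel_right, show i + 1 + 1 = i + 2 by ring] at h6
  change PerfD.betti E (j u) (i + 1) + Module.finrank _ (LinearMap.range ((Φ ρ).map (P.d i (i + 1))).hom) +
    Module.finrank _ (LinearMap.range ((Φ ρ).map (P.d (i + 1) (i + 2))).hom) = n (i + 1) at h6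
  rw [finrank_Φ_of_iso ρ (he (i + 1)).some] at h4
  omega

/-- a Betti number vanishes exactly when the fibre cohomology does -/
theorem isZero_fibre_iff_betti [IsLocallyNoetherian X] [∀ x : X, DCoh.HasLpull (X.fromSpecResidueField x)]
    (E : DCoh.D X) (hE : DCoh.IsPerfect E) (x : X) (i : ℤ) :
    IsZero ((DCoh.gammaAb _).obj (DCoh.HD ((DCoh.Lpull (X.fromSpecResidueField x)).obj E) i)) ↔
      PerfD.betti E x i = 0 := by
  let M := DCoh.HD ((DCoh.Lpull (X.fromSpecResidueField x)).obj E) i
  constructor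
  · intro h
    haveI : Subsingleton (M.val.obj (op ⊤)) := AddCommGrpCat.subsingleton_of_isZero h
    haveI : Nontrivial (Coh.Γtop (Spec (X.residueField x))) :=
      (Scheme.ΓSpecIso (X.residueField x)).commRingCatIsoToRingEquiv.toEquiv.nontrivial
    exact Module.finrank_zero_of_subsingleton
  · intro h
    rw [betti_eq_bfib] at h
    letI := stalkField (pt x) (isField_stalk_pt x)
    haveI : Module.Finite ((Spec (X.residueField x)).presheaf.stalk (pt x)) ((Groth.L00.Stk.F _ (pt x)).obj M) :=
      Groth.L16.Rees.FibreMonoEpi.finite_stalk (Groth.L29.CohSupp.isCohD_of_perfect (isPerfect_Lpull _ hE) i) (pt x)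
    have hs : Subsingleton ((Groth.L00.Stk.F _ (pt x)).obj M) := Module.finrank_zero_iff.1 h
    haveI : Subsingleton (M.presheaf.stalk (pt x)) := hs
    haveI : Subsingleton (M.presheaf.obj (op ⊤)) :=
      (Equiv.ofBijective _ (germ_top_bijective_mod (pt x) M)).subsingleton
    exact @AddCommGrpCat.isZero_of_subsingleton _ this

end Groth.L29.GV
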