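import Groth.Agent.L03.AuslanderBuchsbaum
import Groth.Agent.L06.FlatCodepth
import Groth.Agent.L10.DRing.TorDim
import Groth.Agent.L28.HomElt
import Mathlib.Algebra.Category.ModuleCat.ProjectiveDimension

/-!
A finite free complex without cohomology below `A` has tor amplitude `≥ A - n` over a local ring of depth `≤ n`.
-/

set_option autoImplicit false
set_option linter.style.haveILetI false
set_option backward.isDefEq.respectTransparency false
set_option backward.isDefEq.respectTransparency.types false

universe u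

open CategoryTheory CategoryTheory.Limits IsLocalRing

noncomputable section

namespace Groth.L29.GV

variable {R : Type u} [CommRing R] (C : CochainComplex (ModuleCat.{u} R) ℤ)

/-- the short complex of cokernels of consecutive differentials -/
def cokSeq (a b c : ℤ) : ShortComplex (ModuleCat.{u} R) :=
  ShortComplex.mk (cokernel.desc (C.d a b) (C.d b c) (C.d_comp_d a b c)) (cokernel.π (C.d b c))
    (by rw [← cancel_epi (cokernel.π (C.d a b)), cokernel.π_desc_assoc, cokernel.condition, comp_zero])

theorem cokSeq_shortExact {a b c : ℤ} (hab : a + 1 = b) (hbc : b + 1 = c) (h : IsZero (C.homology b)) :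
    (cokSeq C a b c).ShortExact := by
  have hex : (C.sc' a b c).Exact :=
    (C.exactAt_iff' a b c (by simp [← hab]) (by simp [hbc])).1
      ((HomologicalComplex.exactAt_iff_isZero_homology _ b).2 h)
  haveI : Mono (cokSeq C a b c).f := by
    exact hex.mono_cokernelDesc
  haveI : Epi (cokSeq C a b c).g := inferInstanceAs (Epi (cokernel.π (C.d b c)))
  refine ShortComplex.ShortExact.mk' ?_ inferInstance inferInstance
  rw [ShortComplex.moduleCat_exact_iff]
  intro x hx
  obtain ⟨w, rfl⟩ := (ShortComplex.moduleCat_exact_iff _).1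
    (ShortComplex.exact_cokernel (C.d b c)) x hx
  exact ⟨cokernel.π (C.d a b) w, ConcreteCategory.congr_hom (cokernel.π_desc _ _ (C.d_comp_d a b c)) w⟩

/-- Auslander–Buchsbaum bounds how far below the cohomology the cokernels of a finite free complex become flat -/
theorem flat_coker_of_pd [IsLocalRing R] [IsNoetherianRing R] (lo A : ℤ)
    (hlo : ∀ i, i < lo → IsZero (C.X i)) (hfree : ∀ i, Module.Free R (C.X i))
    (hfin : ∀ i, Module.Finite R (C.X i)) (hH : ∀ i, i < A → IsZero (C.homology i)) (n : ℕ)
    (hn : LocCoh.depth R R ≤ (n : ℕ∞) + LocCoh.depth R (cokernel (C.d (A - 1) A) : ModuleCat.{u} R)) :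
    Module.Flat R (cokernel (C.d (A - n - 1) (A - n)) : ModuleCat.{u} R) := by
  haveI := hfree
  haveI := hfin
  have hP : ∀ i, Projective (C.X i) := fun i => (IsProjective.iff_projective (C.X i)).1 inferInstance
  have hPk : ∀ i (k : ℕ), HasProjectiveDimensionLT (C.X i) (k + 1) := fun i k => by
    haveI := hP i
    exact hasProjectiveDimensionLT_of_ge (C.X i) 1 (k + 1) (by omega)
  -- finiteness
  have hup : ∀ (k : ℕ) (a b : ℤ), a + 1 = b → b ≤ A → b < lo + k →
      HasProjectiveDimensionLT (cokernel (C.d a b)) (k + 1) := by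
    intro k
    induction k with
    | zero =>
      intro a b _ _ hb
      have hz : IsZero (cokernel (C.d a b)) := IsZero.of_epi (cokernel.π (C.d a b)) (hlo b (by omega))
      haveI := hz.hasProjectiveDimensionLT_zero
      exact hasProjectiveDimensionLT_of_ge _ 0 1 (by omega)
    | succ k ih =>
      intro a b hab hbA hb
      exact (cokSeq_shortExact C (a := a - 1) (by omega) hab (hH a (by omega))).hasProjectiveDimensionLT_X₃
        (k + 1) (ih (a - 1) a (by omega) (by omega) (by omega)) (hPk b (k + 1))
  -- the bound by depth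
  have hA : HasProjectiveDimensionLT (cokernel (C.d (A - 1) A)) (n + 1) := by
    set M := cokernel (C.d (A - 1) A)
    rcases subsingleton_or_nontrivial M with h | h
    · haveI := (ModuleCat.isZero_of_subsingleton M).hasProjectiveDimensionLT_zero
      exact hasProjectiveDimensionLT_of_ge _ 0 (n + 1) (by omega)
    · haveI : Module.Finite R M := Module.Finite.of_surjective (cokernel.π (C.d (A - 1) A)).hom
        ((ModuleCat.epi_iff_surjective _).1 inferInstance)
      classical
      have hex : ∃ e : ℕ, HasProjectiveDimensionLE (ModuleCat.of R M) e :=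
        ⟨(A + 1 - lo).toNat, hup _ _ _ (by omega) le_rfl (by omega)⟩
      have hAB := Groth.L03.AB.auslander_buchsbaum (Nat.find hex) M (Nat.find_spec hex)
        fun e' he' => Nat.find_min hex he'
      obtain ⟨q, hq⟩ := WithTop.ne_top_iff_exists.1 (Groth.L03.AB.depth_ne_top (R := R) M)
      have h2 := hAB.ge.trans hn
      rw [← hq] at h2
      have he : Nat.find hex ≤ n := by
        have h3 : Nat.find hex + q ≤ n + q := Nat.cast_le.1 (by rw [Nat.cast_add, Nat.cast_add]; exact h2 :
          ((Nat.find hex + q : ℕ) : ℕ∞) ≤ ((n + q : ℕ) : ℕ∞))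
        omega
      haveI : HasProjectiveDimensionLT M (Nat.find hex + 1) := Nat.find_spec hex
      exact hasProjectiveDimensionLT_of_ge M (Nat.find hex + 1) (n + 1) (by omega)
  -- syzygies
  have hdown : ∀ m : ℕ, m ≤ n → ∀ a b : ℤ, a + 1 = b → b = A - m →
      HasProjectiveDimensionLT (cokernel (C.d a b)) (n - m + 1) := by
    intro m
    induction m with
    | zero =>
      intro _ a b hab hb
      obtain rfl : a = A - 1 := by omega
      obtain rfl : b = A := by omega
      simpa using hA
    | succ m ih =>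
      intro hm a b hab hb
      refine (cokSeq_shortExact C hab (c := b + 1) rfl (hH b (by omega))).hasProjectiveDimensionLT_X₁
        (n - (m + 1) + 1) (hPk _ _) ?_
      rw [show n - (m + 1) + 1 + 1 = n - m + 1 by omega]
      exact ih (by omega) b (b + 1) rfl (by omega)
  have h1 := hdown n le_rfl (A - n - 1) (A - n) (by omega) rfl
  rw [Nat.sub_self] at h1
  haveI : Projective (cokernel (C.d (A - n - 1) (A - n))) :=
    (projective_iff_hasProjectiveDimensionLE_zero _).2 h1
  haveI : Module.Projective R (cokernel (C.d (A - n - 1) (A - n)) : ModuleCat.{u} R) :=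
    (IsProjective.iff_projective _).2 inferInstance
  exact Module.Flat.of_projective

/-- over a local ring of depth at most `n`, the cokernel of a finite free complex is flat `n` steps below the
cohomology -/
theorem flat_coker_of_depth [IsLocalRing R] [IsNoetherianRing R] (lo A : ℤ)
    (hlo : ∀ i, i < lo → IsZero (C.X i)) (hfree : ∀ i, Module.Free R (C.X i))
    (hfin : ∀ i, Module.Finite R (C.X i)) (hH : ∀ i, i < A → IsZero (C.homology i)) (n : ℕ)
    (hn : LocCoh.depth R R ≤ (n : ℕ∞)) :
    Module.Flat R (cokernel (C.d (A - n - 1) (A - n)) : ModuleCat.{u} R) :=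
  flat_coker_of_pd C lo A hlo hfree hfin hH n (hn.trans le_self_add)

/-- torsion-free bottom cohomology gains one degree -/
theorem depth_le_of_torsionFree [IsLocalRing R] [IsNoetherianRing R] (A : ℤ)
    (hfree : Module.Free R (C.X (A + 1))) (hfin : Module.Finite R (C.X A))
    (htf : ∀ r ∈ nonZeroDivisors R, ∀ m : C.homology A, r • m = 0 → m = 0) (n : ℕ)
    (hn : LocCoh.depth R R ≤ (n : ℕ∞)) :
    LocCoh.depth R R ≤ ((n - 1 : ℕ) : ℕ∞) +
      LocCoh.depth R (cokernel (C.d (A - 1) A) : ModuleCat.{u} R) := by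
  obtain ⟨t, ht⟩ := WithTop.ne_top_iff_exists.1 (Groth.L03.AB.depth_ne_top (R := R) R)
  rcases Nat.eq_zero_or_pos t with h0 | h0
  · rw [← ht, h0]; exact bot_le
  have h1 : ((1 : ℕ) : ℕ∞) ≤ LocCoh.idealDepth (maximalIdeal R) R := by
    change ((1 : ℕ) : ℕ∞) ≤ LocCoh.depth R R
    rw [← ht]; exact Nat.cast_le.2 h0
  have hne : maximalIdeal R • (⊤ : Submodule R R) ≠ ⊤ := fun h =>
    absurd (Submodule.eq_bot_of_le_smul_of_le_jacobson_bot (maximalIdeal R) ⊤ Module.Finite.fg_top h.ge
      (maximalIdeal_le_jacobson _)) top_ne_bot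
  obtain ⟨rs, hlen, hrs, hmem⟩ := Groth.L04.exists_of_le_idealDepth hne h1
  obtain ⟨r, rfl⟩ := List.length_eq_one_iff.1 hlen
  have hr : IsSMulRegular R r := (RingTheory.Sequence.isWeaklyRegular_singleton_iff R r).1 hrs
  have hnzd : r ∈ nonZeroDivisors R := mem_nonZeroDivisors_iff_right.2 fun x hx => hr (by simpa [mul_comm] using hx)
  have hregX : IsSMulRegular (C.X (A + 1)) r := fun v w hvw =>
    (Module.Free.chooseBasis R (C.X (A + 1))).repr.injective (Finsupp.ext fun i => hr (by
      simpa using congrArg (fun z => (Module.Free.chooseBasis R (C.X (A + 1))).repr z i) hvw))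
  have hreg : IsSMulRegular (cokernel (C.d (A - 1) A) : ModuleCat.{u} R) r := by
    refine fun a b hab => sub_eq_zero.1 ?_
    obtain ⟨x, hx⟩ := (ModuleCat.epi_iff_surjective (cokernel.π (C.d (A - 1) A))).1 inferInstance (a - b)
    have h2 : cokernel.π (C.d (A - 1) A) (r • x) = 0 := by
      rw [map_smul, hx, smul_sub]; exact sub_eq_zero.2 hab
    obtain ⟨w, hw⟩ := (ShortComplex.moduleCat_exact_iff _).1 (ShortComplex.exact_cokernel (C.d (A - 1) A)) _ h2
    have hdx : C.d A (A + 1) x = 0 := hregX (by
      show r • C.d A (A + 1) x = r • 0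
      rw [smul_zero, ← map_smul, ← hw]
      exact ConcreteCategory.congr_hom (C.d_comp_d (A - 1) A (A + 1)) w)
    obtain ⟨z, rfl⟩ := Groth.L28.HomElt.exists_cycle ((ComplexShape.up ℤ).next_eq' rfl) x hdx
    have hprev : (ComplexShape.up ℤ).prev A = A - 1 := (ComplexShape.up ℤ).prev_eq' (by simp)
    have hz : C.homologyπ A z = 0 := htf r hnzd _ (by
      rw [← map_smul]
      exact (Groth.L28.HomElt.π_eq_zero_iff hprev _).2 ⟨w, hw.trans (map_smul _ r z).symm⟩)
    obtain ⟨y, hy⟩ := (Groth.L28.HomElt.π_eq_zero_iff hprev z).1 hz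
    rw [← hx, ← hy]
    exact ConcreteCategory.congr_hom (cokernel.condition (C.d (A - 1) A)) y
  have hQ : (1 : ℕ∞) ≤ LocCoh.depth R (cokernel (C.d (A - 1) A) : ModuleCat.{u} R) :=
    Groth.L04.one_le_idealDepth_of_regular (hmem r (by simp)) hreg
  refine le_trans ?_ (add_le_add le_rfl hQ)
  rw [← ht] at hn ⊢
  have h3 : t ≤ n := Nat.cast_le.1 hn
  have h4 : ((t : ℕ) : ℕ∞) ≤ ((n - 1 + 1 : ℕ) : ℕ∞) := Nat.cast_le.2 (by omega)
  rwa [Nat.cast_add, Nat.cast_one] at h4

end Groth.L29.GV
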