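import Groth.Agent.L08.GrpDim

/-!
Codimension and dimension of a point of a group scheme.
-/

set_option autoImplicit false
set_option linter.style.haveILetI false
set_option backward.isDefEq.respectTransparency.types false

universe u

open CategoryTheory CategoryTheory.Limits AlgebraicGeometry MonoidalCategory MonObj CartesianMonoidalCategory

namespace Groth.L29.GV

open Groth.L25 Groth.L22 Groth.L22.FibreDim Groth.L08.GrpDim

variable {k : Type u} [Field k] (G : Over (Spec (CommRingCat.of k))) [GrpObj G] [LocallyOfFiniteType G.hom]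

/-- the dimension of a point and its codimension add to the dimension of the group -/
theorem exists_dim_closure_add_stalk (g : G.left) :
    ∃ a b : ℕ, topologicalKrullDim ↥(closure ({g} : Set G.left)) = (a : WithBot ℕ∞) ∧
      ringKrullDim (G.left.presheaf.stalk g) = (b : WithBot ℕ∞) ∧
      topologicalKrullDim G.left = ((a + b : ℕ) : WithBot ℕ∞) := by
  letI : G.left.Over (Spec (CommRingCat.of k)) := ⟨G.hom⟩
  haveI : LocallyOfFiniteType (G.left ↘ Spec (CommRingCat.of k)) := ‹LocallyOfFiniteType G.hom›
  obtain ⟨n, hall, hn⟩ := Groth.L08.GrpDim.exists_dim G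
  obtain ⟨a, c, ha, hc, hloc⟩ := SchemeDim.exists_localDim k G.left g
  obtain ⟨a', ha', hatr⟩ := SchemeDim.exists_dim_closure_eq_trdeg k G.left g
  have haa : a = a' := by exact_mod_cast ha.symm.trans hatr
  have hl : FlatMor.localDim G.left g = topologicalKrullDim G.left := by
    refine le_antisymm ?_ (le_iInf fun U => ?_)
    · exact (iInf_le _ ⟨⊤, trivial⟩).trans (topologicalKrullDim_subspace_le _ _)
    · obtain ⟨ξ, hξg, hξ⟩ := exists_maximal_specializes g
      obtain ⟨_, ⟨W, hW, rfl⟩, hgW, hWU⟩ := G.left.isBasis_affineOpens.exists_subset_of_mem_open U.2 U.1.2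
      have hξW : ξ ∈ W := hξg.mem_open W.2 hgW
      obtain ⟨m, hm, htr⟩ := SchemeDim.exists_dim_quotient_eq_trdeg k G.left hW hξW
      obtain ⟨m', hm', htr'⟩ := SchemeDim.exists_dim_closure_eq_trdeg k G.left ξ
      have h1 : m = m' := by exact_mod_cast htr.symm.trans htr'
      have h2 : (m' : WithBot ℕ∞) = n := hm'.symm.trans (hall ξ hξ)
      rw [hn, ← h2, ← h1, ← hm, ← SchemeDim.topologicalKrullDim_closure_inter hW hξW]
      exact SchemeDim.topologicalKrullDim_mono (Set.inter_subset_right.trans hWU)
  exact ⟨a', c, ha', hc, by rw [← hl, hloc, haa]⟩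

end Groth.L29.GV
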