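import Groth.Agent.L29.GV.DepthAmp
import Groth.Agent.L29.Dual.PushDual
import Groth.Agent.L29.DCoh.PerfDescent
import Groth.Agent.L18.LocFreeFP
import Groth.Agent.L21.Mod.Locality
import Groth.Agent.L07.RefExtend.Stalk

/-!
Cohomology bounds for duals of perfect complexes on locally Noetherian schemes: if `H^i(K) = 0` for `i < A` then
`H^j(K^∨)` vanishes at points `y` with `dim O_y < j + A`.
-/

set_option autoImplicit false
set_option linter.style.haveILetI false
set_option backward.defeqAttrib.useBackward true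
set_option backward.isDefEq.respectTransparency false
set_option backward.isDefEq.respectTransparency.types false

universe u

open CategoryTheory CategoryTheory.Limits AlgebraicGeometry

attribute [local instance] HasDerivedCategory.standard

noncomputable section

namespace Groth.L29.GV

open Groth.L00 Groth.L29.DC Groth.L29.BCAdj

variable {X Y : Scheme.{u}}

/-- `N ⊗^L F` is bounded below for a bounded flat complex `F` -/
theorem isGE_LT (F : CochainComplex X.Modules ℤ) (hF : DCoh.IsKFlat F) (a : ℤ) [F.IsStrictlyGE a]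
    [DCoh.HasLTensorCx F] (N : DCoh.D X) (r : ℤ) [N.IsGE r] : ((DCoh.LTensorCx F).obj N).IsGE (r + a) := by
  obtain ⟨C, hC, ⟨e⟩⟩ := N.exists_iso_Q_obj_of_isGE r
  haveI := hC
  haveI : ((DCoh.tensorCx.obj C).obj F).IsStrictlyGE (r + a) := by
    refine (CochainComplex.isStrictlyGE_iff _ _).2 fun n hn => ?_
    refine (IsZero.iff_id_eq_zero _).2 (HomologicalComplex.mapBifunctor.hom_ext fun i j h => ?_)
    have hij : i + j = n := h
    by_cases hi : i < r
    · exact (((DCoh.tensorBi (X := X)).map_isZero (C.isZero_of_isStrictlyGE r i hi)).obj (F.X j)).eq_of_src _ _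
    · exact (((DCoh.tensorBi (X := X)).obj (C.X i)).map_isZero
        (F.isZero_of_isStrictlyGE a j (by omega))).eq_of_src _ _
  haveI : (DerivedCategory.Q.obj ((DCoh.tensorCx.obj C).obj F)).IsGE (r + a) := inferInstance
  exact (DerivedCategory.isGE_iff _ _).2 fun i hi =>
    (DerivedCategory.isZero_of_isGE (DerivedCategory.Q.obj ((DCoh.tensorCx.obj C).obj F)) (r + a) i hi).of_iso
      ((DerivedCategory.homologyFunctor _ i).mapIso ((DCoh.LTensorCx F).mapIso e ≪≫ (Assoc.allIso F hF).app C))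

/-- the dual of a perfect complex of flat amplitude `≥ a` lives in degrees `≤ -a` -/
theorem isLE_dual (E : CochainComplex X.Modules ℤ) [DCoh.HasLTensorCx E] [DCoh.HasRSheafHom E]
    (hE : DCoh.IsPerfect (DCoh.toD X E)) {a b : ℤ} (h : DCoh.HasFlatAmplitudeIn a b (DCoh.toD X E)) :
    ((DCoh.RSheafHom E).obj (OD X)).IsLE (-a) := by
  haveI := fun F : CochainComplex X.Modules ℤ => KFlat.hasLTensorCx F
  haveI := fun F : CochainComplex X.Modules ℤ => RHom.hasRSheafHom F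
  obtain ⟨F, hv, hf, ⟨eF⟩⟩ := h
  have hFk : DCoh.IsKFlat F := TildeAlg.isKFlat_of_bdd F hf b fun i hi => hv i (Or.inr hi)
  haveI : F.IsStrictlyGE a := (CochainComplex.isStrictlyGE_iff _ _).2 fun i hi => hv i (Or.inl hi)
  obtain ⟨D, hD, ⟨d⟩⟩ := Groth.L07.BvdB.DualHom.exists_kflat_rep ((DCoh.RSheafHom E).obj (OD X))
  obtain ⟨s⟩ := EvalMain.nonempty_RSheafHom_iso eF
  obtain ⟨o⟩ := EvalMain.nonempty_O0_iso (X := X)
  obtain ⟨σ⟩ := Groth.L10.DualNat.nonempty_LT_iso_RHom F D hFk (isPerfect_of_iso eF.symm hE)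
    ⟨d ≪≫ (s.app _).symm ≪≫ (DCoh.RSheafHom F).mapIso o.symm⟩
  obtain ⟨u⟩ := PushDual.nonempty_LT_unit D hD
  haveI := FiveRight.additive_left (DCoh.RSheafHomAdj D)
  refine (DerivedCategory.TStructure.t.isLE_iff_orthogonal (-a) (-a + 1) rfl _).2 fun N f hN => ?_
  haveI : N.IsGE (-a + 1) := hN
  suffices h0 : u.hom ≫ d.hom ≫ f = 0 by
    rwa [← cancel_epi d.hom, ← cancel_epi u.hom, comp_zero, comp_zero]
  apply ((DCoh.RSheafHomAdj D).homEquiv (OD X) N).injective
  rw [show (DCoh.RSheafHomAdj D).homEquiv (OD X) N 0 = 0 by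
    simp [Adjunction.homEquiv_unit]]
  haveI hge : ((DCoh.LTensorCx F).obj N).IsGE (-a + 1 + a) := isGE_LT F hFk a N (-a + 1)
  haveI : DerivedCategory.TStructure.t.IsLE (OD X) 0 := inferInstanceAs (DerivedCategory.IsLE (OD X) 0)
  haveI : DerivedCategory.TStructure.t.IsGE ((DCoh.RSheafHom D).obj N) 1 := by
    refine (DerivedCategory.isGE_iff _ _).2 fun i hi => ?_
    exact (DerivedCategory.isZero_of_isGE ((DCoh.LTensorCx F).obj N) (-a + 1 + a) i (by omega)).of_iso
      ((DerivedCategory.homologyFunctor _ i).mapIso (σ.app N).symm)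
  exact DerivedCategory.TStructure.t.zero _ 0 1 (by omega)

/-- flatness of a cokernel at a point bounds the amplitude nearby -/
theorem exists_nhd_of_flat (M : DCoh.D Y) {V : Y.Opens} {P : CochainComplex (V : Scheme.{u}).Modules ℤ}
    (α : (resD V).obj M ≅ DerivedCategory.Q.obj P) (hP : DCoh.IsStrictlyPerfect P) (a : ℤ)
    (hz : ∀ i, i < a → IsZero (P.homology i)) (y' : (V : Scheme.{u}))
    (hflat : Module.Flat ((V : Scheme.{u}).presheaf.stalk y')
      (cokernel (((Groth.L00.Stk.S (V : Scheme.{u}) y').obj P).d (a - 1) a) :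
        ModuleCat.{u} ((V : Scheme.{u}).presheaf.stalk y'))) :
    ∃ (U : Scheme.{u}) (j : U ⟶ Y) (_ : IsOpenImmersion j) (b : ℤ), y'.1 ∈ j.opensRange ∧
      DCoh.HasFlatAmplitudeIn a b ((DCoh.restrictD j).obj M) := by
  obtain ⟨⟨lo, hi', hv⟩, hf⟩ := hP
  obtain ⟨O, hyO, hO⟩ := PerfDesc.exists_nhd_coker (P.d (a - 1) a) (hf _) (hf _) y' hflat
  let T := (DCoh.restrictCx O).obj P
  obtain ⟨⟨lo', hi'', hv'⟩, hf'⟩ := PerfDesc.isStrictlyPerfect_truncGE_of_coker
    (isStrictlyPerfect_restrict O.ι ⟨⟨lo, hi', hv⟩, hf⟩) a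
    (Groth.L29.LocFree.of_iso (PreservesCokernel.iso (Scheme.Modules.restrictFunctor O.ι) (P.d (a - 1) a)) hO)
  haveI : T.IsGE a := by
    rw [CochainComplex.isGE_iff]
    intro i hi
    rw [HomologicalComplex.exactAt_iff_isZero_homology]
    exact ((Scheme.Modules.restrictFunctor O.ι).map_isZero (hz i hi)).of_iso
      ((P.sc i).mapHomologyIso (Scheme.Modules.restrictFunctor O.ι))
  haveI : IsIso (DerivedCategory.Q.map (T.πTruncGE a)) :=
    (DerivedCategory.isIso_Q_map_iff_quasiIso _ _).2 inferInstance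
  refine ⟨_, O.ι ≫ V.ι, inferInstance, hi'', ⟨⟨y', hyO⟩, rfl⟩, T.truncGE a, ?_,
    fun i => isFlat_of_isFinLocFree (hf' i), ⟨?_⟩⟩
  · rintro i (hi | hi)
    · exact CochainComplex.isZero_of_isStrictlyGE _ a i hi
    · exact hv' i (Or.inr hi)
  · exact (asIso (DerivedCategory.Q.map (T.πTruncGE a))).symm ≪≫ (resQIso O P).symm ≪≫
      (resD O).mapIso α.symm ≪≫ (resTransD V.ι O.ι (O.ι ≫ V.ι) rfl).app M

/-- the depth of the local ring of an open subscheme -/
theorem depth_le_of_dim [IsLocallyNoetherian Y] (V : Y.Opens) (y' : (V : Scheme.{u})) (n : ℕ)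
    (hn : ringKrullDim (Y.presheaf.stalk y'.1) ≤ (n : WithBot ℕ∞)) :
    LocCoh.depth ((V : Scheme.{u}).presheaf.stalk y') ((V : Scheme.{u}).presheaf.stalk y') ≤ (n : ℕ∞) := by
  haveI : IsLocallyNoetherian (V : Scheme.{u}) := LocallyOfFiniteType.isLocallyNoetherian V.ι
  have h1 := Groth.L06.FlatCodepth.depth_le_dim ((V : Scheme.{u}).presheaf.stalk y')
  rw [ringKrullDim_eq_of_ringEquiv (V.stalkIso y').commRingCatIsoToRingEquiv] at h1
  exact WithBot.coe_le_coe.1 (h1.trans hn)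

/-- near a point of dimension `n` a perfect complex without cohomology below `A` has amplitude `≥ A - n` -/
theorem exists_nhd_amp [IsLocallyNoetherian Y] (M : DCoh.D Y) (hM : DCoh.IsPerfect M) (A : ℤ)
    (hA : ∀ i, i < A → IsZero (DCoh.HD M i)) (y : Y) (n : ℕ)
    (hn : ringKrullDim (Y.presheaf.stalk y) ≤ (n : WithBot ℕ∞)) :
    ∃ (U : Scheme.{u}) (j : U ⟶ Y) (_ : IsOpenImmersion j) (b : ℤ), y ∈ j.opensRange ∧
      DCoh.HasFlatAmplitudeIn (A - n) b ((DCoh.restrictD j).obj M) := by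
  obtain ⟨V, hy, P, hP, ⟨α⟩⟩ := (isPerfect_iff_wit M).1 hM y
  have hP' := hP
  obtain ⟨⟨lo, hi', hv⟩, hf⟩ := hP'
  let y' : (V : Scheme.{u}) := ⟨y, hy⟩
  haveI : IsLocallyNoetherian (V : Scheme.{u}) := LocallyOfFiniteType.isLocallyNoetherian V.ι
  have hz : ∀ i, i < A → IsZero (P.homology i) := fun i hi =>
    ((Scheme.Modules.restrictFunctor V.ι).map_isZero (hA i hi)).of_iso
      (((DerivedCategory.homologyFunctorFactors _ i).app P).symm ≪≫
        (DerivedCategory.homologyFunctor _ i).mapIso α.symm ≪≫ HDResIso V.ι M i)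
  let F := Groth.L00.Stk.F (V : Scheme.{u}) y'
  exact exists_nhd_of_flat M α hP (A - n) (fun i hi => hz i (by omega)) y'
    (flat_coker_of_depth ((Groth.L00.Stk.S (V : Scheme.{u}) y').obj P) lo A (fun i hi => F.map_isZero (hv i (Or.inl hi)))
      (fun i => Groth.L18.LFP.free_stalk _ (hf i) y')
      (fun i => Groth.L18.LFP.finite_stalk _ (Groth.L18.LFP.isFP_of_isFinLocFree _ (hf i)) y')
      (fun i hi => (F.map_isZero (hz i hi)).of_iso ((P.sc i).mapHomologyIso F)) n (depth_le_of_dim V y' n hn))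

/-- a perfect object with torsion-free bottom cohomology gains one degree -/
theorem exists_nhd_amp_torsionFree [IsLocallyNoetherian Y] (M : DCoh.D Y) (hM : DCoh.IsPerfect M) (A : ℤ)
    (hA : ∀ i, i < A → IsZero (DCoh.HD M i)) (y : Y)
    (htf : ∀ r ∈ nonZeroDivisors (Y.presheaf.stalk y),
      ∀ m : (DCoh.HD M A).presheaf.stalk y, r • m = 0 → m = 0) (n : ℕ)
    (hn : ringKrullDim (Y.presheaf.stalk y) ≤ (n : WithBot ℕ∞)) :
    ∃ (U : Scheme.{u}) (j : U ⟶ Y) (_ : IsOpenImmersion j) (b : ℤ), y ∈ j.opensRange ∧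
      DCoh.HasFlatAmplitudeIn (A - (n - 1 : ℕ)) b ((DCoh.restrictD j).obj M) := by
  obtain ⟨V, hy, P, hP, ⟨α⟩⟩ := (isPerfect_iff_wit M).1 hM y
  have hP' := hP
  obtain ⟨⟨lo, hi', hv⟩, hf⟩ := hP'
  let y' : (V : Scheme.{u}) := ⟨y, hy⟩
  haveI : IsLocallyNoetherian (V : Scheme.{u}) := LocallyOfFiniteType.isLocallyNoetherian V.ι
  let ρ : ∀ i, P.homology i ≅ (DCoh.HD M i).restrict V.ι := fun i =>
    ((DerivedCategory.homologyFunctorFactors _ i).app P).symm ≪≫
      (DerivedCategory.homologyFunctor _ i).mapIso α.symm ≪≫ HDResIso V.ι M i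
  let F := Groth.L00.Stk.F (V : Scheme.{u}) y'
  let C := (Groth.L00.Stk.S (V : Scheme.{u}) y').obj P
  have hfree : ∀ i, Module.Free ((V : Scheme.{u}).presheaf.stalk y') (C.X i) :=
    fun i => Groth.L18.LFP.free_stalk _ (hf i) y'
  have hfin : ∀ i, Module.Finite ((V : Scheme.{u}).presheaf.stalk y') (C.X i) :=
    fun i => Groth.L18.LFP.finite_stalk _ (Groth.L18.LFP.isFP_of_isFinLocFree _ (hf i)) y'
  have hz : ∀ i, i < A → IsZero (P.homology i) := fun i hi =>
    ((Scheme.Modules.restrictFunctor V.ι).map_isZero (hA i hi)).of_iso (ρ i)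
  have htf' : ∀ r ∈ nonZeroDivisors ((V : Scheme.{u}).presheaf.stalk y'),
      ∀ m : C.homology A, r • m = 0 → m = 0 := by
    intro r hr m hm
    let ε : C.homology A ≅ F.obj ((DCoh.HD M A).restrict V.ι) := (P.sc A).mapHomologyIso F ≪≫ F.mapIso (ρ A)
    let σ := Groth.L07.RefExtend.stalkEquiv V.ι y'
    let e := Groth.L07.RefExtend.restrictStalkEquiv V.ι (DCoh.HD M A) y'
    obtain ⟨s, rfl⟩ := σ.surjective r
    have h1 : s • e (ε.hom m) = 0 := by
      rw [← Groth.L07.RefExtend.restrictStalk_smul]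
      refine (congrArg e ((map_smul ε.hom.hom (σ s) m).symm.trans ?_)).trans (map_zero e)
      rw [hm, map_zero]
    have hs : s ∈ nonZeroDivisors (Y.presheaf.stalk y) := mem_nonZeroDivisors_iff_right.2 fun x hx =>
      σ.injective ((mem_nonZeroDivisors_iff_right.1 hr (σ x) (by rw [← map_mul, hx, map_zero])).trans
        (map_zero σ).symm)
    have h2 : ε.hom m = 0 := e.injective ((htf s hs _ h1).trans (map_zero e).symm)
    exact (ConcreteCategory.bijective_of_isIso ε.hom).1 (h2.trans (map_zero ε.hom.hom).symm)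
  have hd := depth_le_of_torsionFree C A (hfree _) (hfin _) htf' n (depth_le_of_dim V y' n hn)
  exact exists_nhd_of_flat M α hP (A - (n - 1 : ℕ)) (fun i hi => hz i (by omega)) y'
    (flat_coker_of_pd C lo A (fun i hi => F.map_isZero (hv i (Or.inl hi))) hfree hfin
      (fun i hi => (F.map_isZero (hz i hi)).of_iso ((P.sc i).mapHomologyIso F)) (n - 1) hd)

/-- supports of the cohomology of the dual -/
theorem notMem_support_dual_of_amp [IsNoetherian Y] (K : CochainComplex Y.Modules ℤ) [DCoh.HasLTensorCx K]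
    [DCoh.HasRSheafHom K] (hK : DCoh.IsPerfect (DCoh.toD Y K)) (y : Y) (a : ℤ)
    (h : ∃ (U : Scheme.{u}) (g : U ⟶ Y) (_ : IsOpenImmersion g) (b : ℤ), y ∈ g.opensRange ∧
      DCoh.HasFlatAmplitudeIn a b ((DCoh.restrictD g).obj (DCoh.toD Y K))) (j : ℤ) (hj : -a < j) :
    y ∉ CohB1.support (DCoh.HD ((DCoh.RSheafHom K).obj (OD Y)) j) := by
  haveI := fun {V : Scheme.{u}} (F : CochainComplex V.Modules ℤ) => KFlat.hasLTensorCx F
  haveI := fun {V : Scheme.{u}} (F : CochainComplex V.Modules ℤ) => RHom.hasRSheafHom F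
  obtain ⟨U, g, hg, b, ⟨u, rfl⟩, hamp⟩ := h
  haveI := KFlat.hasLpull g
  obtain ⟨K₀, hK₀, ⟨k₀⟩⟩ := Groth.L07.BvdB.DualHom.exists_kflat_rep (DCoh.toD Y K)
  have hK₀p : DCoh.IsPerfect (DCoh.toD Y K₀) := isPerfect_of_iso k₀.symm hK
  obtain ⟨D, hD, ⟨d⟩⟩ := Groth.L07.BvdB.DualHom.exists_kflat_rep ((DCoh.RSheafHom K₀).obj (OD Y))
  obtain ⟨dd⟩ := PushDual.nonempty_dual_pull g K₀ D hK₀ hK₀p hD d
  obtain ⟨s⟩ := EvalMain.nonempty_RSheafHom_iso k₀
  obtain ⟨r₁⟩ := nonempty_Lpull_iso_restrictD g ((DCoh.RSheafHom K).obj (OD Y))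
  obtain ⟨r₂⟩ := nonempty_Lpull_iso_restrictD g (DCoh.toD Y K₀)
  let o₂ : DCoh.toD U ((Proj.pullCx g).obj K₀) ≅ (DCoh.restrictD g).obj (DCoh.toD Y K) :=
    (DerivedApi.objIso (DerivedApi.acyclicKFlat_pullback g) K₀ hK₀).symm ≪≫ r₂ ≪≫
      (DCoh.restrictD g).mapIso k₀
  have hamp' : DCoh.HasFlatAmplitudeIn a b (DCoh.toD U ((Proj.pullCx g).obj K₀)) := by
    obtain ⟨F, h1, h2, ⟨e⟩⟩ := hamp
    exact ⟨F, h1, h2, ⟨e ≪≫ o₂.symm⟩⟩
  haveI := isLE_dual ((Proj.pullCx g).obj K₀)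
    (isPerfect_of_iso o₂.symm (EvalMain.isPerfect_restrictD g hK)) hamp'
  have hz : IsZero ((DCoh.HD ((DCoh.RSheafHom K).obj (OD Y)) j).restrict g) :=
    (DerivedCategory.isZero_of_isLE ((DCoh.RSheafHom ((Proj.pullCx g).obj K₀)).obj (OD U)) (-a) j
      (by omega)).of_iso ((HDResIso g _ j).symm ≪≫ (DerivedCategory.homologyFunctor _ j).mapIso
        (r₁.symm ≪≫ (DCoh.Lpull g).mapIso (s.symm.app _ ≪≫ d.symm) ≪≫
          DerivedApi.objIso (DerivedApi.acyclicKFlat_pullback g) D hD ≪≫ dd))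
  intro hmem
  have h := (Groth.L21.Mod.support_restrict g (DCoh.HD ((DCoh.RSheafHom K).obj (OD Y)) j)).superset
    (show u ∈ g ⁻¹' CohB1.support _ from hmem)
  exact (Groth.L21.Mod.mem_support_iff_not_isZero _ _).1 h ((Groth.L21.Mod.stalkF U u).map_isZero hz)

/-- cohomology below `A` bounds the supports of the cohomology of the dual -/
theorem notMem_support_dual [IsNoetherian Y] (K : CochainComplex Y.Modules ℤ) [DCoh.HasLTensorCx K]
    [DCoh.HasRSheafHom K] (hK : DCoh.IsPerfect (DCoh.toD Y K)) (A : ℤ)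
    (hA : ∀ i, i < A → IsZero (DCoh.HD (DCoh.toD Y K) i)) (y : Y) (n : ℕ)
    (hn : ringKrullDim (Y.presheaf.stalk y) ≤ (n : WithBot ℕ∞)) (j : ℤ) (hj : (n : ℤ) - A < j) :
    y ∉ CohB1.support (DCoh.HD ((DCoh.RSheafHom K).obj (OD Y)) j) :=
  notMem_support_dual_of_amp K hK y (A - n) (exists_nhd_amp _ hK A hA y n hn) j (by omega)

end Groth.L29.GV
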