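import Mathlib.Algebra.Category.ModuleCat.Projective
import Mathlib.Algebra.Category.ModuleCat.Ext.HasExt
import Mathlib.Algebra.Homology.DerivedCategory.Ext.ExactSequences
import Mathlib.Algebra.Homology.DerivedCategory.Ext.EnoughProjectives
import Mathlib.Algebra.Homology.ShortComplex.ModuleCat
import Mathlib.RingTheory.OrzechProperty
import Mathlib.RingTheory.FiniteType
import Mathlib.LinearAlgebra.Dimension.Free
import Mathlib.RingTheory.Finiteness.Projective

/-!
A bounded complex of projectives whose cohomology has large grade has exact dual in high degrees; exactness of a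
fibre then propagates to the next degree.
-/

set_option autoImplicit false
set_option linter.style.haveILetI false
set_option backward.isDefEq.respectTransparency false
set_option backward.isDefEq.respectTransparency.types false

universe u

open CategoryTheory CategoryTheory.Limits CategoryTheory.Abelian

noncomputable section

namespace Groth.L29.GV

variable {R : Type u} [CommRing R]

theorem subsingleton_ext_congr {X X' Y Y' : ModuleCat.{u} R} (e : X ≅ X') (e' : Y ≅ Y') {q : ℕ}
    (h : Subsingleton (Ext X' Y' q)) : Subsingleton (Ext X Y q) := by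
  refine subsingleton_of_forall_eq 0 fun x => ?_
  have hx : ((Ext.mk₀ e.inv).comp x (zero_add q)).comp (Ext.mk₀ e'.hom) (add_zero q) = 0 := Subsingleton.elim _ _
  have h2 : (Ext.mk₀ e.inv).comp x (zero_add q) = 0 := by
    rw [← Ext.comp_mk₀_id ((Ext.mk₀ e.inv).comp x (zero_add q)), ← e'.hom_inv_id, ← Ext.mk₀_comp_mk₀,
      ← Ext.comp_assoc_of_second_deg_zero, hx, Ext.zero_comp]
  rw [← Ext.mk₀_id_comp x, ← e.hom_inv_id, ← Ext.mk₀_comp_mk₀,
    Ext.comp_assoc_of_second_deg_zero, h2, Ext.comp_zero]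

/-- boundaries of finite free modules split off when they are carried onto themselves by a contraction -/
theorem exists_regular_inverse {A M B : Type u} [AddCommGroup A] [AddCommGroup M] [AddCommGroup B] [Module R A]
    [Module R M] [Module R B] [Module.Finite R M] [Module.Projective R B]
    (e : A →ₗ[R] M) (d : M →ₗ[R] B) (h : B →ₗ[R] M) (h' : M →ₗ[R] A)
    (hs : Function.Surjective (h.comp d + e.comp h')) (hde : d.comp e = 0) :
    ∃ r : B →ₗ[R] M, d.comp (r.comp d) = d := by
  let I := LinearMap.range d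
  have key : ∀ x, d (h (d x)) = d ((h.comp d + e.comp h') x) := fun x => by
    have := LinearMap.congr_fun hde (h' x)
    simp only [LinearMap.comp_apply, LinearMap.zero_apply] at this
    simp [this]
  let g : B →ₗ[R] I := d.rangeRestrict.comp h
  let T : I →ₗ[R] I := g.comp I.subtype
  have hT : Function.Surjective T := by
    rintro ⟨_, x, rfl⟩
    obtain ⟨z, rfl⟩ := hs x
    exact ⟨⟨d z, z, rfl⟩, Subtype.ext (key z)⟩
  have hTi := OrzechProperty.injective_of_surjective_endomorphism T hT
  let E := LinearEquiv.ofBijective T ⟨hTi, hT⟩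
  obtain ⟨r, hr⟩ := Module.projective_lifting_property d.rangeRestrict (E.symm.toLinearMap.comp g)
    (LinearMap.surjective_rangeRestrict d)
  refine ⟨r, LinearMap.ext fun x => ?_⟩
  have h1 := congrArg Subtype.val (LinearMap.congr_fun hr (d x))
  exact h1.trans (congrArg Subtype.val (E.symm_apply_apply ⟨d x, x, rfl⟩))

variable (C : CochainComplex (ModuleCat.{u} R) ℤ)

/-- boundaries in degree `j` -/
abbrev bd (j : ℤ) : ModuleCat.{u} R := kernel (C.pOpcycles j)

/-- from opcycles to the boundaries one degree up -/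
def toBd (a b : ℤ) : C.opcycles a ⟶ bd C b :=
  kernel.lift _ (C.fromOpcycles a b) (by rw [← cancel_epi (C.pOpcycles a), C.p_fromOpcycles_assoc, C.d_pOpcycles, comp_zero])

theorem toBd_ι (a b : ℤ) : toBd C a b ≫ kernel.ι _ = C.fromOpcycles a b := kernel.lift_ι _ _ _

theorem shortExact_homology (a b : ℤ) (hab : a + 1 = b) :
    (ShortComplex.mk (C.homologyι a) (toBd C a b)
      (by rw [← cancel_mono (kernel.ι _), Category.assoc, toBd_ι, C.homologyι_comp_fromOpcycles, zero_comp])).ShortExact := by
  refine ShortComplex.ShortExact.mk' ?_ inferInstance ?_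
  · rw [ShortComplex.moduleCat_exact_iff]
    intro x hx
    have h1 := (ShortComplex.moduleCat_exact_iff _).1
      (ShortComplex.exact_of_f_is_kernel (ShortComplex.mk (C.homologyι a) (C.fromOpcycles a b) (by simp))
        (C.homologyIsKernel a b (by simp [← hab])))
    refine h1 x ?_
    change C.fromOpcycles a b x = 0
    rw [← toBd_ι C a b]
    exact (congrArg (kernel.ι (C.pOpcycles b)) hx).trans (map_zero _)
  · rw [ModuleCat.epi_iff_surjective]
    intro v
    have h1 := (ShortComplex.moduleCat_exact_iff _).1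
      (ShortComplex.exact_of_g_is_cokernel (ShortComplex.mk (C.d a b) (C.pOpcycles b) (C.d_pOpcycles a b))
        (C.opcyclesIsCokernel a b (by simp [← hab])))
    obtain ⟨c, hc⟩ := h1 (kernel.ι (C.pOpcycles b) v) (ConcreteCategory.congr_hom (kernel.condition (C.pOpcycles b)) v)
    refine ⟨C.pOpcycles a c, (ModuleCat.mono_iff_injective (kernel.ι (C.pOpcycles b))).1 inferInstance ?_⟩
    refine (ConcreteCategory.congr_hom (toBd_ι C a b) (C.pOpcycles a c)).trans ?_
    exact (ConcreteCategory.congr_hom (C.p_fromOpcycles a b) c).trans hc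

theorem shortExact_bd (j : ℤ) :
    (ShortComplex.mk (kernel.ι (C.pOpcycles j)) (C.pOpcycles j) (kernel.condition _)).ShortExact :=
  ShortComplex.ShortExact.mk' (ShortComplex.exact_of_f_is_kernel _ (kernelIsKernel _)) inferInstance inferInstance

variable {C}

/-- the dual of a bounded complex of projectives is exact where the grade of the cohomology is large -/
theorem exists_factor_of_grade (hi : ℤ) (hhi : ∀ j, hi < j → IsZero (C.X j)) (hP : ∀ j, Projective (C.X j))
    (N : ModuleCat.{u} R) (k' : ℤ) (hgrade : ∀ (j : ℤ) (q : ℕ), (q : ℤ) < j - k' → Subsingleton (Ext (C.homology j) N q))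
    (l m m' : ℤ) (hl : l + 1 = m) (hm' : m + 1 = m') (hm : k' < m) (φ : C.X m ⟶ N) (hφ : C.d l m ≫ φ = 0) :
    ∃ ψ : C.X m' ⟶ N, C.d m m' ≫ ψ = φ := by
  have vanish : ∀ (n : ℕ) (j : ℤ) (q : ℕ), hi - n < j → 1 ≤ q → (q : ℤ) < j - k' →
      Subsingleton (Ext (C.opcycles j) N q) := by
    intro n
    induction n with
    | zero =>
      intro j q hj _ _
      have hz : IsZero (C.opcycles j) := IsZero.of_epi (C.pOpcycles j) (hhi j (by omega))
      refine subsingleton_of_forall_eq 0 fun x => ?_
      rw [← Ext.mk₀_id_comp x, hz.eq_of_src (𝟙 _) 0, Ext.mk₀_zero, Ext.zero_comp]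
    | succ n ih =>
      intro j q hj hq hjq
      refine subsingleton_of_forall_eq 0 fun x => ?_
      haveI := hgrade j q hjq
      obtain ⟨y, hy⟩ := Ext.contravariant_sequence_exact₂ (shortExact_homology C j (j + 1) rfl) N x
        (Subsingleton.elim _ _)
      haveI := ih (j + 1) (1 + q) (by omega) (by omega) (by omega)
      obtain ⟨z, hz⟩ := Ext.contravariant_sequence_exact₁ (shortExact_bd C (j + 1)) N y rfl (Subsingleton.elim _ _)
      haveI := hP (j + 1)
      obtain ⟨q', rfl⟩ : ∃ q', q = q' + 1 := ⟨q - 1, by omega⟩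
      have hz0 : z = 0 := Ext.eq_zero_of_projective z
      rw [← hy, ← hz, hz0, Ext.comp_zero, Ext.comp_zero]
  let φ' : C.opcycles m ⟶ N := C.descOpcycles φ l (by simp [← hl]) hφ
  haveI := hgrade m 0 (by omega)
  obtain ⟨y, hy⟩ := Ext.contravariant_sequence_exact₂ (shortExact_homology C m m' hm') N (Ext.mk₀ φ')
    (Subsingleton.elim _ _)
  haveI := vanish (hi + 1 - m').toNat m' 1 (by omega) le_rfl (by omega)
  obtain ⟨z, hz⟩ := Ext.contravariant_sequence_exact₁ (shortExact_bd C m') N y (n₁ := 1) rfl (Subsingleton.elim _ _)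
  obtain ⟨ψ, rfl⟩ := (Ext.mk₀_bijective _ _).2 z
  refine ⟨ψ, ?_⟩
  have h : φ' = toBd C m m' ≫ kernel.ι _ ≫ ψ := (Ext.mk₀_bijective _ _).1 (by
    rw [← hy, ← hz, Ext.mk₀_comp_mk₀, Ext.mk₀_comp_mk₀])
  rw [← C.p_fromOpcycles m m', ← toBd_ι C m m', Category.assoc, Category.assoc, ← h]
  exact C.p_descOpcycles _ _ _ _

/-- a regular inverse in one degree and large grade of the cohomology split the complex one degree up -/
theorem exists_split (hi : ℤ) (hhi : ∀ j, hi < j → IsZero (C.X j)) (hfree : ∀ j, Module.Free R (C.X j))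
    (hfin : ∀ j, Module.Finite R (C.X j)) (k' : ℤ)
    (hgrade : ∀ (j : ℤ) (q : ℕ), (q : ℤ) < j - k' → Subsingleton (Ext (C.homology j) (ModuleCat.of R R) q))
    (i : ℤ) (hik : k' ≤ i) (r : C.X (i + 1) ⟶ C.X i) (hr : C.d i (i + 1) ≫ r ≫ C.d i (i + 1) = C.d i (i + 1)) :
    ∃ s : C.X (i + 2) ⟶ C.X (i + 1), r ≫ C.d i (i + 1) + C.d (i + 1) (i + 2) ≫ s = 𝟙 _ := by
  haveI := hfree
  haveI := hfin
  have hP : ∀ j, Projective (C.X j) := fun j => (IsProjective.iff_projective (C.X j)).1 inferInstance
  let φ := 𝟙 (C.X (i + 1)) - r ≫ C.d i (i + 1)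
  have hφ : C.d i (i + 1) ≫ φ = 0 := by simp [φ, Preadditive.comp_sub, hr]
  let b := Module.Free.chooseBasis R (C.X (i + 1))
  have hc : ∀ c, ∃ ψ : C.X (i + 2) ⟶ ModuleCat.of R R,
      C.d (i + 1) (i + 2) ≫ ψ = φ ≫ ModuleCat.ofHom (b.coord c) := fun c =>
    exists_factor_of_grade hi hhi hP (ModuleCat.of R R) k' hgrade i (i + 1) (i + 2) rfl (by omega) (by omega) _
      (by rw [← Category.assoc, hφ, zero_comp])
  choose ψ hψ using hc
  refine ⟨ModuleCat.ofHom (∑ c, ((ψ c).hom).smulRight (b c)), ?_⟩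
  suffices h : C.d (i + 1) (i + 2) ≫ ModuleCat.ofHom (∑ c, ((ψ c).hom).smulRight (b c)) = φ by
    rw [h]
    simp [φ]
  ext x
  have h1 : ∀ c, (ψ c).hom ((C.d (i + 1) (i + 2)).hom x) = b.coord c (φ.hom x) := fun c =>
    ConcreteCategory.congr_hom (hψ c) x
  simp only [ModuleCat.hom_comp, ModuleCat.hom_ofHom, LinearMap.comp_apply, LinearMap.coe_sum, Finset.sum_apply,
    LinearMap.smulRight_apply, h1, Module.Basis.coord_apply]
  exact b.sum_repr _

end Groth.L29.GV
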