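import Groth.Agent.L29.GV.DualBound
import Groth.Agent.L29.DCoh.RHomBound
import Groth.Agent.L10.DerTrunc
import Groth.Agent.Lead.LTMod
import Groth.Agent.Lead.TwistEquiv
import Groth.Agent.Lead.PCProjBasic
import Mathlib.Algebra.Homology.DerivedCategory.FullyFaithful

/-!
The derived dual of a finite locally free module in degree zero is its dual in degree zero.
-/

set_option autoImplicit false
set_option linter.style.haveILetI false
set_option backward.defeqAttrib.useBackward true
set_option backward.isDefEq.respectTransparency false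
set_option backward.isDefEq.respectTransparency.types false

universe u

open CategoryTheory CategoryTheory.Limits AlgebraicGeometry

attribute [local instance] HasDerivedCategory.standard

noncomputable section

namespace Groth.L29.GV

open Groth.L00 Groth.L29.DC Groth.L29.BCAdj

/-- the value of a right adjoint on the heart from the right adjoint on the ambient category -/
theorem nonempty_iso_of_ff {C D : Type*} [Category C] [Category D] {s : C ⥤ D} (ff : s.FullyFaithful)
    {L R : D ⥤ D} (adj : L ⊣ R) {T G : C ⥤ C} (a0 : T ⊣ G) (τ : s ⋙ L ≅ T ⋙ s) (H O : C)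
    (eR : R.obj (s.obj O) ≅ s.obj H) : Nonempty (H ≅ G.obj O) := by
  let e : ∀ M : C, (M ⟶ H) ≃ (M ⟶ G.obj O) := fun M =>
    ((((ff.homEquiv (X := M) (Y := H)).trans (Iso.homCongr (Iso.refl _) eR.symm)).trans
      (adj.homEquiv (s.obj M) (s.obj O)).symm).trans (Iso.homCongr (τ.app M) (Iso.refl _))).trans
      ((ff.homEquiv (X := T.obj M) (Y := O)).symm.trans (a0.homEquiv M O))
  refine ⟨Yoneda.fullyFaithful.preimageIso
    (NatIso.ofComponents (fun M => (e M.unop).toIso) (fun {M N} g => ?_))⟩
  ext f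
  change e N.unop (g.unop ≫ f) = g.unop ≫ e M.unop f
  simp only [e, Equiv.trans_apply]
  rw [← a0.homEquiv_naturality_left]
  refine congrArg (a0.homEquiv _ _) (ff.map_injective ?_)
  simp only [Functor.FullyFaithful.homEquiv_symm_apply, Functor.FullyFaithful.homEquiv_apply, Functor.map_comp,
    Functor.FullyFaithful.map_preimage, Iso.homCongr_apply, Iso.refl_inv, Iso.refl_hom, Iso.symm_hom,
    Category.id_comp, Category.comp_id, Category.assoc, Iso.app_inv, Adjunction.homEquiv_naturality_left_symm]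
  have hp : ∀ {A B : C} (h : s.obj A ⟶ s.obj B), s.map (ff.homEquiv.symm h) = h :=
    fun h => ff.homEquiv.apply_symm_apply h
  refine (hp _).trans (Eq.trans ?_ (congrArg (s.map (T.map g.unop) ≫ ·) (hp _)).symm)
  exact (τ.inv.naturality_assoc g.unop _).symm

variable {X : Scheme.{u}}

set_option maxHeartbeats 800000 in
theorem nonempty_RSheafHom_single {A : X.Modules} (hA : FlatMod.IsFinLocFree A) [DCoh.HasSheafHom A]
    [DCoh.HasLTensorCx (Groth.Lead.LTMod.S0 A)] [DCoh.HasRSheafHom (Groth.Lead.LTMod.S0 A)] :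
    Nonempty ((DCoh.RSheafHom (Groth.Lead.LTMod.S0 A)).obj (OD X) ≅
      DCoh.inD X ((DCoh.sheafHom A).obj (Coh.structureModule X))) := by
  haveI := (Groth.L16.Rees.PushExact.exact_instances hA).1
  haveI := (Groth.L16.Rees.PushExact.exact_instances hA).2
  haveI := Groth.L00.DerivedApi.hasLTensorMod A
  let O := Coh.structureModule X
  let L := DCoh.LTensorCx (Groth.Lead.LTMod.S0 A)
  let R := DCoh.RSheafHom (Groth.Lead.LTMod.S0 A)
  let s := DerivedCategory.singleFunctor X.Modules 0
  -- concentration in degree zero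
  let eA : DCoh.inD X A ≅ DCoh.toD X (Groth.Lead.LTMod.S0 A) :=
    (DerivedCategory.singleFunctorIsoCompQ X.Modules 0).app A
  have hp : DCoh.IsPerfect (DCoh.toD X (Groth.Lead.LTMod.S0 A)) :=
    isPerfect_of_iso eA (Groth.Lead.PCProj.isPerfect_inD hA)
  have hamp : DCoh.HasFlatAmplitudeIn 0 0 (DCoh.toD X (Groth.Lead.LTMod.S0 A)) := by
    refine ⟨Groth.Lead.LTMod.S0 A, fun i hi => HomologicalComplex.isZero_single_obj_X _ _ _ _ (by omega),
      fun i => ?_, ⟨Iso.refl _⟩⟩
    by_cases hi : i = 0
    · subst hi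
      exact isFlat_of_isFinLocFree
        (Groth.L29.LocFree.of_iso (HomologicalComplex.singleObjXSelf (ComplexShape.up ℤ) 0 A).symm hA)
    · exact isFlat_of_isFinLocFree
        (Groth.L29.LocFree.of_isZero (HomologicalComplex.isZero_single_obj_X _ _ _ _ hi))
  haveI h1 : (R.obj (OD X)).IsLE 0 := isLE_dual _ hp hamp
  haveI h2 : (R.obj (OD X)).IsGE 0 := RHom.isGE_RSheafHom _ 0
    ((DerivedCategory.isLE_iff _ _).2 fun i hi => (DerivedCategory.isZero_of_isLE (DCoh.inD X A) 0 i hi).of_iso
      ((DerivedCategory.homologyFunctor _ i).mapIso eA.symm)) (OD X) 0 inferInstance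
  obtain ⟨eR⟩ := Groth.L10.exists_iso_single_H (R.obj (OD X)) 0
  let H := DCoh.HD (R.obj (OD X)) 0
  -- the tensor product on the heart
  let τ : s ⋙ L ≅ (DCoh.tensorBi (X := X)).obj A ⋙ s :=
    Functor.isoWhiskerLeft s ((Groth.Lead.LTMod.iso A).symm ≪≫ Groth.Lead.TwistEquiv.ltIso A hA) ≪≫
      (DCoh.tensorRightMod A).mapDerivedCategorySingleFunctor 0 ≪≫
      Functor.isoWhiskerRight (Groth.L00.DerivedApi.tensorRightModIso A) s
  obtain ⟨i⟩ := nonempty_iso_of_ff (Functor.FullyFaithful.ofFullyFaithful s)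
    (DCoh.RSheafHomAdj (Groth.Lead.LTMod.S0 A)) (DCoh.sheafHomAdj A) τ H O eR
  exact ⟨eR ≪≫ s.mapIso i⟩

end Groth.L29.GV
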