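import Groth.Agent.L29.GV.OmegaAlg
import Groth.Agent.L29.GV.DualExact
import Groth.Agent.L29.DCoh.TildeAlg
import Groth.Agent.L29.DCoh.TildeD
import Groth.Agent.L29.DCoh.ExtZeroD
import Groth.Agent.L29.DCoh.RHomQCoh
import Groth.Agent.L29.DCoh.RHomCoh
import Groth.Agent.L29.Dual.HomD
import Groth.Agent.L29.Dual.PushDual
import Groth.Agent.L00.LocalData
import Groth.Agent.L21.Mod.Locality
import Groth.Agent.L29.K.CohSupp
import Groth.Agent.L07.BvdB.DualHom

/-!
`RHom(E, ω)` has no cohomology below `-k'` when the depth of `ω` along the supports of the cohomology of the perfect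
object `E` grows with the degree minus `k'`.
-/

set_option autoImplicit false
set_option linter.style.haveILetI false
set_option backward.defeqAttrib.useBackward true
set_option backward.isDefEq.respectTransparency false
set_option backward.isDefEq.respectTransparency.types false

universe u

open CategoryTheory CategoryTheory.Limits CategoryTheory.Abelian AlgebraicGeometry DerivedCategory

attribute [local instance] HasDerivedCategory.standard

noncomputable section

namespace Groth.L29.GV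

open Groth.L00 Groth.L29.DC Groth.L29.BCAdj

set_option maxHeartbeats 1600000 in
/-- lower bound for `RHom` from a perfect object into a coherent module -/
theorem isZero_HD_RHom {Y : Scheme.{u}} [IsLocallyNoetherian Y] (E : CochainComplex Y.Modules ℤ)
    (hEk : DCoh.IsKFlat E) [DCoh.HasLTensorCx E] [DCoh.HasRSheafHom E] (hE : DCoh.IsPerfect (DCoh.toD Y E))
    (ω : Y.Modules) (hω : Coh.IsCoh ω) (k' : ℤ)
    (hdepth : ∀ (j : ℤ) (y : Y), y ∈ CohB1.support (DCoh.HD (DCoh.toD Y E) j) →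
      ((j - k').toNat : ℕ∞) ≤ LocCoh.depth (Y.presheaf.stalk y) (ω.presheaf.stalk y))
    (l : ℤ) (hl : l < -k') : IsZero (DCoh.HD ((DCoh.RSheafHom E).obj (DCoh.inD Y ω)) l) := by
  haveI := fun {V : Scheme.{u}} (F : CochainComplex V.Modules ℤ) => KFlat.hasLTensorCx F
  haveI := fun {V : Scheme.{u}} (F : CochainComplex V.Modules ℤ) => RHom.hasRSheafHom F
  refine (Groth.L00.Stk.isZero_iff _).2 fun y => ?_
  obtain ⟨V, hV, hy, -⟩ := exists_isAffineOpen_mem_and_subset (TopologicalSpace.Opens.mem_top y)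
  let R : CommRingCat.{u} := Γ(Y, V)
  let j : Spec R ⟶ Y := hV.fromSpec
  haveI : IsNoetherianRing R := IsLocallyNoetherian.component_noetherian ⟨V, hV⟩
  haveI : IsLocallyNoetherian (Spec R) := LocallyOfFiniteType.isLocallyNoetherian j
  haveI := Groth.L18.TildeF.tilde_preservesFiniteLimits (R := R)
  haveI : PreservesFiniteColimits (tilde.functor R) :=
    haveI : PreservesColimitsOfSize.{0, 0} (tilde.functor R) := tilde.adjunction.leftAdjoint_preservesColimits
    inferInstance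
  haveI : (tilde.functor R).Additive :=
    haveI : PreservesColimitsOfSize.{0, 0} (tilde.functor R) := tilde.adjunction.leftAdjoint_preservesColimits
    haveI := preservesBinaryBiproducts_of_preservesBinaryCoproducts (tilde.functor R)
    Functor.additive_of_preservesBinaryBiproducts _
  obtain ⟨hF, hF'⟩ := TildeD.fullyFaithful (R := R)
  -- the local models
  let EU := (ExtZero.rCx j).obj E
  let eEU : (DCoh.restrictD j).obj (DCoh.toD Y E) ≅ DCoh.toD (Spec R) EU :=
    (Scheme.Modules.restrictFunctor j).mapDerivedCategoryFactors.app E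
  obtain ⟨EK, hEK, ⟨eEK⟩⟩ := Groth.L07.BvdB.DualHom.exists_kflat_rep (DCoh.toD (Spec R) EU)
  have hEUp : DCoh.IsPerfect (DCoh.toD (Spec R) EU) := isPerfect_of_iso eEU (EvalMain.isPerfect_restrictD j hE)
  have hωq : DCoh.IsQCohD (DCoh.inD Y ω) := Groth.Lead.LTMod.isQCohD_inD_of hω.1
  haveI : Coh.IsQCoh ω := hω.1
  obtain ⟨N, ⟨eN⟩⟩ := Groth.L00.Local.exists_tilde_iso_restrict j ω
  haveI : Module.Finite R N := Groth.L16.CohKernel.finite_of_tilde_iso ω hω.2 j N eN
  let eω : (DCoh.restrictD j).obj (DCoh.inD Y ω) ≅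
      (DCoh.tildeD R).obj ((singleFunctor (ModuleCat.{u} R) 0).obj N) :=
    ((Scheme.Modules.restrictFunctor j).mapDerivedCategorySingleFunctor 0).app ω ≪≫
      (singleFunctor (Spec R).Modules 0).mapIso eN ≪≫
      (((tilde.functor R).mapDerivedCategorySingleFunctor 0).app N).symm
  obtain ⟨K, ⟨eK⟩⟩ := (TildeD.isQCohD_iff (DCoh.toD (Spec R) EU)).1 (PCQCoh.isQCohD_of_perfect hEUp)
  obtain ⟨C, a, b, hCv, hCp, ⟨eC⟩⟩ := TildeAlg.perfect_of_tilde (isPerfect_of_iso eK.symm hEUp)
  haveI : ∀ i, Projective (C.X i) := fun i =>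
    haveI := (hCp i).2
    (IsProjective.iff_projective _).1 inferInstance
  haveI : C.IsStrictlyLE b := (CochainComplex.isStrictlyLE_iff C b).2 fun i hi => hCv i (Or.inr hi)
  -- grade
  have hgrade : ∀ (i : ℤ) (q : ℕ), (q : ℤ) < i - k' → Subsingleton (Ext (C.homology i) N q) := by
    intro i q hq
    let H := (Groth.L02.PC.HH i).obj K
    let eH : DCoh.HD ((DCoh.restrictD j).obj (DCoh.toD Y E)) i ≅ tilde H :=
      (homologyFunctor _ i).mapIso (eEU ≪≫ eK.symm) ≪≫ TildeAlg.hdIso K i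
    have hcoh : Coh.IsCoh (tilde H) := Groth.L16.CohSupport.isCoh_of_iso eH
      (Groth.L29.CohSupp.isCohD_of_perfect (EvalMain.isPerfect_restrictD j hE) i)
    haveI : Coh.IsQCoh (tilde H) := hcoh.1
    haveI : Module.Finite R H := Groth.L16.CohKernel.finite_of_tilde_iso (tilde H) hcoh.2 (𝟙 _) H
      (Scheme.Modules.restrictFunctorId.app _)
    refine subsingleton_ext_congr (((homologyFunctorFactors (ModuleCat.{u} R) i).app C).symm ≪≫
      (homologyFunctor (ModuleCat.{u} R) i).mapIso eC) (Iso.refl N) ?_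
    refine subsingleton_ext_tilde H N (i - k').toNat (fun p hp => ?_) q (by omega)
    have hp' : j p ∈ CohB1.support (DCoh.HD (DCoh.toD Y E) i) :=
      (Groth.L21.Mod.support_restrict j _).subset
        ((Groth.L21.Mod.support_congr (eH.symm ≪≫ HDResIso j _ i)).subset hp)
    have e := ((Groth.L00.Stk.F (Spec R) p).mapIso eN).toLinearEquiv
    rw [← show LocCoh.depth ((Spec R).presheaf.stalk p) ((ω.restrict j).presheaf.stalk p) =
      LocCoh.depth ((Spec R).presheaf.stalk p) ((tilde N).presheaf.stalk p) from Groth.L04.idealDepth_congr e,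
      depth_restrict j ω hω p]
    exact hdepth i (j p) hp'
  -- vanishing on the affine open
  let M := (DCoh.RSheafHom E).obj (DCoh.inD Y ω)
  have hMq : DCoh.IsQCohD M := (RHom.rPres_of_isPerfect hE).pres _ hωq
  obtain ⟨r⟩ := ExtZero.nonempty_res_RSheafHom j E
  obtain ⟨sE⟩ := EvalMain.nonempty_RSheafHom_iso eEK
  obtain ⟨L, ⟨eL⟩⟩ := (TildeD.isQCohD_iff ((DCoh.restrictD j).obj M)).1 (isQCohD_restrictD j hMq)
  let eO : (DCoh.tildeD R).obj (Dual.inD R R) ≅ OD (Spec R) :=
    ((tilde.functor R).mapDerivedCategorySingleFunctor 0).app (ModuleCat.of R R) ≪≫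
      (singleFunctor (Spec R).Modules 0).mapIso tildeSelf
  obtain ⟨o⟩ := EvalMain.nonempty_O0_iso (X := Spec R)
  obtain ⟨sh⟩ := Groth.Lead.FlatPerfect.nonempty_LTensorCx_shift EK hEK (RHom.O0 (Spec R)) (-l)
  obtain ⟨uE⟩ := Groth.L29.PushDual.nonempty_LT_unit EK hEK
  let eS : (DCoh.LTensorCx EK).obj ((OD (Spec R))⟦-l⟧) ≅ (DCoh.tildeD R).obj ((Q.obj C)⟦-l⟧) :=
    (DCoh.LTensorCx EK).mapIso ((shiftFunctor _ (-l)).mapIso o.symm ≪≫
      ((DerivedCategory.Q.commShiftIso (-l)).app _).symm) ≪≫ sh ≪≫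
    (shiftFunctor _ (-l)).mapIso ((DCoh.LTensorCx EK).mapIso o ≪≫ uE ≪≫ eEK ≪≫ eK.symm ≪≫
      (DCoh.tildeD R).mapIso eC.symm) ≪≫ (((DCoh.tildeD R).commShiftIso (-l)).app _).symm
  have h1 : ∀ x : (Q.obj C)⟦-l⟧ ⟶ (singleFunctor (ModuleCat.{u} R) 0).obj N, x = 0 :=
    hom_inD_eq_zero C b N (-l) fun φ hφ => exists_factor_of_grade b (fun i hi => hCv i (Or.inr hi))
      (fun i => inferInstance) N k' hgrade (-l - 1) (-l) (-l + 1) (by omega) rfl (by omega) φ hφ
  haveI : Subsingleton ((DCoh.LTensorCx EK).obj ((OD (Spec R))⟦-l⟧) ⟶ (DCoh.restrictD j).obj (DCoh.inD Y ω)) := by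
    refine ⟨fun u v => ?_⟩
    obtain ⟨u', hu⟩ := (DCoh.tildeD R).map_surjective (eS.inv ≫ u ≫ eω.hom)
    obtain ⟨v', hv⟩ := (DCoh.tildeD R).map_surjective (eS.inv ≫ v ≫ eω.hom)
    rw [← cancel_epi eS.inv, ← cancel_mono eω.hom, Category.assoc, Category.assoc, ← hu, ← hv, h1 u', h1 v']
  haveI : Subsingleton ((OD (Spec R))⟦-l⟧ ⟶ (DCoh.restrictD j).obj M) :=
    (((DCoh.RSheafHomAdj EK).homEquiv _ _).trans
      (Iso.homCongr (Iso.refl _) (sE.app _ ≪≫ (r.app _).symm))).symm.subsingleton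
  let MU := (DCoh.restrictD j).obj M
  haveI : Subsingleton (OD (Spec R) ⟶ MU⟦l⟧) :=
    ⟨fun u v => (shiftFunctor (DCoh.D (Spec R)) (-l)).map_injective
      ((cancel_mono ((shiftFunctorCompIsoId (DCoh.D (Spec R)) l (-l) (by omega)).app MU).hom).1
        (Subsingleton.elim (α := (OD (Spec R))⟦-l⟧ ⟶ MU) _ _))⟩
  have hsub : Subsingleton (Dual.inD R R ⟶ L⟦l⟧) :=
    ⟨fun u v => (DCoh.tildeD R).map_injective
      ((Iso.homCongr eO (((DCoh.tildeD R).commShiftIso l).app L ≪≫ (shiftFunctor _ l).mapIso eL)).injective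
        (Subsingleton.elim (α := OD (Spec R) ⟶ MU⟦l⟧) _ _))⟩
  have hz : IsZero (DCoh.HD ((DCoh.restrictD j).obj M) l) := by
    haveI := hsub
    haveI : Subsingleton (Dual.HD R L l) := (HomD.evalShiftEquiv L l).symm.toEquiv.subsingleton
    exact ((TildeAlg.isZero_hd_iff L l).2 (ModuleCat.isZero_of_subsingleton _)).of_iso
      ((homologyFunctor _ l).mapIso eL.symm)
  obtain ⟨p, rfl⟩ := hV.opensRange_fromSpec.ge hy
  by_contra hne
  have hmem : j p ∈ CohB1.support (DCoh.HD M l) := by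
    intro hs
    exact hne (@ModuleCat.isZero_of_subsingleton _ _ _ hs)
  have h2 := (Groth.L21.Mod.support_congr (HDResIso j M l)).symm.subset
    ((Groth.L21.Mod.support_restrict j _).symm.subset hmem)
  exact (Groth.L21.Mod.mem_support_iff_not_isZero _ _).1 h2 ((Groth.L21.Mod.stalkF _ p).map_isZero hz)

end Groth.L29.GV
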