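import Groth.Agent.L29.GV.BettiSucc
import Groth.Agent.L29.GV.DualBound

/-!
A perfect object whose fibres have no negative cohomology has its dual in non-positive degrees.
-/

set_option autoImplicit false
set_option linter.style.haveILetI false
set_option backward.defeqAttrib.useBackward true
set_option backward.isDefEq.respectTransparency false
set_option backward.isDefEq.respectTransparency.types false

universe u

open CategoryTheory CategoryTheory.Limits AlgebraicGeometry Opposite

attribute [local instance] HasDerivedCategory.standard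

noncomputable section

namespace Groth.L29.GV

open Groth.L00 Groth.L29.DC Groth.L29.BCAdj Groth.L29.DC.Fib

variable {Y : Scheme.{u}}

/-- a module on the spectrum of a field vanishes with its sections -/
theorem isZero_of_gammaAb {K : CommRingCat.{u}} (hK : IsField K) (M : (Spec K).Modules)
    (h : IsZero ((DCoh.gammaAb (Spec K)).obj M)) : IsZero M := by
  haveI : Subsingleton (M.presheaf.obj (op ⊤)) := AddCommGrpCat.subsingleton_of_isZero h
  letI : Field K := hK.toField
  haveI : Subsingleton (Spec K) := inferInstanceAs (Subsingleton (PrimeSpectrum K))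
  refine (Groth.L00.Stk.isZero_iff _).2 fun x => ?_
  haveI : Subsingleton (M.presheaf.stalk x) :=
    (Equiv.ofBijective _ (germ_top_bijective_mod x M)).symm.subsingleton
  exact @ModuleCat.isZero_of_subsingleton _ _ _ ‹Subsingleton (M.presheaf.stalk x)›

set_option maxHeartbeats 800000 in
theorem isLE_dual_of_fibres [IsNoetherian Y] [∀ y : Y, DCoh.HasLpull (Y.fromSpecResidueField y)]
    (K : CochainComplex Y.Modules ℤ) (hKk : DCoh.IsKFlat K) [DCoh.HasLTensorCx K] [DCoh.HasRSheafHom K]
    (hK : DCoh.IsPerfect (DCoh.toD Y K))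
    (h : ∀ (y : Y) (i : ℤ), i < 0 → PerfD.betti (DCoh.toD Y K) y i = 0) :
    ((DCoh.RSheafHom K).obj (OD Y)).IsLE 0 := by
  haveI := fun {V : Scheme.{u}} (F : CochainComplex V.Modules ℤ) => KFlat.hasLTensorCx F
  haveI := fun {V : Scheme.{u}} (F : CochainComplex V.Modules ℤ) => RHom.hasRSheafHom F
  obtain ⟨D, hD, ⟨d⟩⟩ := Groth.L07.BvdB.DualHom.exists_kflat_rep ((DCoh.RSheafHom K).obj (OD Y))
  obtain ⟨hDp, -⟩ := Groth.L10.DualNat.nonempty_RSheafHom_iso_LT K hK D ⟨d⟩
  refine (DerivedCategory.isLE_iff _ _).2 fun i hi => IsZero.of_iso ?_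
    ((DerivedCategory.homologyFunctor _ i).mapIso d.symm)
  refine (Groth.L00.Stk.isZero_iff _).2 fun y => ?_
  by_contra hne
  refine Groth.L07.BvdB.FibreNakayama.notMem_support (DCoh.toD Y D) hDp y i ?_
    (fun hs => hne (@ModuleCat.isZero_of_subsingleton _ _ _ hs))
  refine (isZero_fibre_iff_betti _ hDp y i).1 ((DCoh.gammaAb _).map_isZero ?_)
  let ι := Y.fromSpecResidueField y
  have hf : IsField (Y.residueField y) := Field.toIsField _
  obtain ⟨dd⟩ := PushDual.nonempty_dual_pull ι K D hKk hK hD d
  refine IsZero.of_iso ?_ ((DerivedCategory.homologyFunctor _ i).mapIso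
    (DerivedApi.objIso (DerivedApi.acyclicKFlat_pullback ι) D hD ≪≫ dd))
  let e := DerivedApi.objIso (DerivedApi.acyclicKFlat_pullback ι) K hKk
  refine (Groth.L00.Stk.isZero_iff _).2 fun x => ?_
  by_contra hne'
  refine notMem_support_dual ((Proj.pullCx ι).obj K) (isPerfect_of_iso e (isPerfect_Lpull ι hK)) 0
    (fun l hl => (isZero_of_gammaAb hf _ ((isZero_fibre_iff_betti _ hK y l).2 (h y l hl))).of_iso
      ((DerivedCategory.homologyFunctor _ l).mapIso e.symm)) x 0 ?_ i (by simpa using hi)
    (fun hs => hne' (@ModuleCat.isZero_of_subsingleton _ _ _ hs))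
  rw [Subsingleton.elim x (pt y)]
  letI := stalkField (pt y) (isField_stalk_pt y)
  exact le_of_eq (ringKrullDim_eq_zero_of_field _)

end Groth.L29.GV
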