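import Groth.Agent.L29.GV.SerreVanish
import Groth.Agent.L29.GV.DualBound
import Groth.Agent.L10.FMBC.Basic
import Groth.Agent.L10.FMBC.Comp
import Groth.Agent.L10.FMK.Twist
import Groth.Agent.L29.BCAdj.HomFlatPC
import Groth.Agent.L07.SyntOverField

/-!
The restriction to a fibre of a locally free kernel applied to a module has no negative hypercohomology.
-/

set_option autoImplicit false
set_option linter.style.haveILetI false
set_option backward.defeqAttrib.useBackward true
set_option backward.isDefEq.respectTransparency false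
set_option backward.isDefEq.respectTransparency.types false

universe u

open CategoryTheory CategoryTheory.Limits AlgebraicGeometry

attribute [local instance] HasDerivedCategory.standard

noncomputable section

namespace Groth.L29.GV

open Groth.L00 Groth.L29.DC Groth.L29.BCAdj

set_option maxHeartbeats 800000 in
theorem isZero_fibre_kernel (k : Type u) [Field k]
    (X Y : Scheme.{u}) (a : X ⟶ Spec (CommRingCat.of k)) (b : Y ⟶ Spec (CommRingCat.of k))
    (P₀ : (pullback a b).Modules) (hP₀ : FlatMod.IsFinLocFree P₀)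
    [DCoh.HasLpull (pullback.fst a b)] [DCoh.HasLTensorCx (Groth.Lead.LTMod.S0 P₀)]
    (y : Y) [DCoh.HasLpull (pullback.fst (pullback.snd a b) (Y.fromSpecResidueField y))]
    [DCoh.HasRΓ (pullback (pullback.snd a b) (Y.fromSpecResidueField y))]
    (W : DCoh.D X) (hW : W.IsGE 0) (i : ℤ) (hi : i < 0) :
    IsZero ((DerivedCategory.homologyFunctor AddCommGrpCat.{u} i).obj
      ((DCoh.RΓ (pullback (pullback.snd a b) (Y.fromSpecResidueField y))).obj
        ((DCoh.Lpull (pullback.fst (pullback.snd a b) (Y.fromSpecResidueField y))).obj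
          ((DCoh.LTensorCx (Groth.Lead.LTMod.S0 P₀)).obj ((DCoh.Lpull (pullback.fst a b)).obj W))))) := by
  haveI := fun {A B : Scheme.{u}} (f : A ⟶ B) => KFlat.hasLpull f
  haveI := fun {V : Scheme.{u}} (E : CochainComplex V.Modules ℤ) => KFlat.hasLTensorCx E
  let ys := Y.fromSpecResidueField y
  let p := pullback.fst a b
  let q := pullback.snd a b
  let ι := pullback.fst q ys
  have hc : IsPullback ι (pullback.snd q ys) q ys := IsPullback.of_hasPullback _ _
  have hbig := hc.paste_horiz (IsPullback.of_hasPullback a b)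
  haveI : Flat (ys ≫ b) := Groth.L07.SyntOverField.flat_over_field _
  haveI : Flat (ι ≫ p) := MorphismProperty.of_isPullback hbig.flip ‹_›
  let A := (Scheme.Modules.pullback ι).obj P₀
  have hA : FlatMod.IsFinLocFree A := Groth.L29.LocFree.pullback ι hP₀
  have hPk : DCoh.IsKFlat (Groth.Lead.LTMod.S0 P₀) :=
    TildeAlg.isKFlat_of_bdd _ (fun j => by
      by_cases hj : j = 0
      · subst hj
        exact isFlat_of_isFinLocFree
          (Groth.L29.LocFree.of_iso (HomologicalComplex.singleObjXSelf (ComplexShape.up ℤ) 0 P₀).symm hP₀)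
      · exact isFlat_of_isFinLocFree
          (Groth.L29.LocFree.of_isZero (HomologicalComplex.isZero_single_obj_X _ _ _ _ hj)))
      0 fun j hj => HomologicalComplex.isZero_single_obj_X _ _ _ _ (by omega)
  obtain ⟨t⟩ := Groth.L10.FMBC.nonempty_pullTensorD ι (Groth.Lead.LTMod.S0 P₀) hPk
  haveI : (Scheme.Modules.pullback ι).Additive :=
    (Scheme.Modules.pullbackPushforwardAdjunction ι).left_adjoint_additive
  obtain ⟨c⟩ := Groth.L29.BC.ProjQC.nonempty_LTensorCx_congr (B := Groth.Lead.LTMod.S0 A)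
    (DerivedCategory.Q.mapIso ((HomologicalComplex.singleMapHomologicalComplex (Scheme.Modules.pullback ι)
      (ComplexShape.up ℤ) 0).app P₀))
  obtain ⟨l⟩ := Groth.L10.FMBC.nonempty_lpull_comp' ι p (k := ι ≫ p) rfl
  let V := (DCoh.Lpull (ι ≫ p)).obj W
  haveI hV : V.IsGE 0 := isGE_Lpull_flat (ι ≫ p) W 0 hW
  let M := (DCoh.Lpull ι).obj ((DCoh.LTensorCx (Groth.Lead.LTMod.S0 P₀)).obj ((DCoh.Lpull p).obj W))
  let eM : M ≅ (DCoh.LTensorCx (Groth.Lead.LTMod.S0 A)).obj V :=
    t.app ((DCoh.Lpull p).obj W) ≪≫ c.app _ ≪≫ (DCoh.LTensorCx (Groth.Lead.LTMod.S0 A)).mapIso (l.app W)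
  haveI := (DCoh.tensorRightMod A).preservesZeroMorphisms_of_additive
  haveI : M.IsGE 0 := (DerivedCategory.isGE_iff _ _).2 fun j hj => by
    obtain ⟨h⟩ := Groth.L10.FMK.nonempty_HD_tensor hA V j
    exact ((DCoh.tensorRightMod A).map_isZero (DerivedCategory.isZero_of_isGE V 0 j hj)).of_iso
      ((DerivedCategory.homologyFunctor _ j).mapIso eM ≪≫ h)
  refine (isZero_H_shift_iff M i).2 (isZero_H0_of_hom _ fun φ => ?_)
  haveI : DerivedCategory.TStructure.t.IsGE M 0 := ‹M.IsGE 0›
  haveI : DerivedCategory.TStructure.t.IsGE (M⟦i⟧) (-i) :=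
    DerivedCategory.TStructure.t.isGE_shift M 0 i (-i) (by omega)
  haveI : DerivedCategory.TStructure.t.IsLE (OD (pullback q ys)) 0 :=
    inferInstanceAs (DerivedCategory.IsLE (OD (pullback q ys)) 0)
  exact DerivedCategory.TStructure.t.zero φ 0 (-i) (by omega)

end Groth.L29.GV
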