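import Groth.Agent.L29.GV.PointFibre
import Groth.Agent.S1005
import Groth.Agent.L21.Smooth.Scheme
import Groth.Agent.L29.DCoh.FibreSplit
import Groth.Agent.L29.DCoh.Amplitude
import Groth.Agent.L05.OmegaRank.Free
import Mathlib.AlgebraicGeometry.AlgClosed.Basic

/-!
The Fourier–Mukai transform of an IT(0) sheaf is locally free in degree zero.
-/

set_option autoImplicit false
set_option linter.style.haveILetI false
set_option backward.defeqAttrib.useBackward true
set_option backward.isDefEq.respectTransparency false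
set_option backward.isDefEq.respectTransparency.types false

universe u

open CategoryTheory CategoryTheory.Limits MonoidalCategory CartesianMonoidalCategory MonObj GrpObj AlgebraicGeometry

attribute [local instance] HasDerivedCategory.standard

noncomputable section

namespace Groth.L29.GV

open Groth.L00 Groth.L29.DC Groth.L29.DC.Fib

/-- coherent cohomology, bounded, on a regular scheme -/
theorem isPerfect_of_smooth {k : Type u} [Field k] {X : Scheme.{u}} (f : X ⟶ Spec (CommRingCat.of k)) [Smooth f]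
    (G : DCoh.D X) (a b : ℤ) [G.IsGE a] [G.IsLE b] (hG : DCoh.IsCohD G) : DCoh.IsPerfect G := by
  haveI : IsLocallyNoetherian X := LocallyOfFiniteType.isLocallyNoetherian f
  exact Groth.Agent.S1005.result X (Groth.L21.Smooth.regular_stalk f) G a b hG

theorem isPerfect_inD_of_smooth {k : Type u} [Field k] {X : Scheme.{u}} (f : X ⟶ Spec (CommRingCat.of k)) [Smooth f]
    (M : X.Modules) (hM : Coh.IsCoh M) : DCoh.IsPerfect (DCoh.inD X M) := by
  haveI : IsLocallyNoetherian X := LocallyOfFiniteType.isLocallyNoetherian f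
  refine isPerfect_of_smooth f _ 0 0 fun i => ?_
  by_cases hi : i = 0
  · subst hi
    obtain ⟨a⟩ := Groth.L29.RelPC.nonempty_HD0_inD M
    exact Groth.L16.CohSupport.isCoh_of_iso a.symm hM
  · exact Groth.L29.DC.RHomC.isCoh_of_isZero (Groth.L29.RelPC.isZero_HD_inD hi)

/-- finite locally free degree zero cohomology from local splittings at closed points -/
theorem exists_finLocFree_of_betti {X : Scheme.{u}} [JacobsonSpace X]
    [∀ x : X, DCoh.HasLpull (X.fromSpecResidueField x)] (E : DCoh.D X) (hE : DCoh.IsPerfect E)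
    (h : ∀ x : X, IsClosed ({x} : Set X) → ∀ j : ℤ, j ≠ 0 → PerfD.betti E x j = 0) :
    ∃ N : X.Modules, FlatMod.IsFinLocFree N ∧ Nonempty (E ≅ DCoh.inD X N) := by
  have key : ∀ x : X, ∃ (U : Scheme.{u}) (j : U ⟶ X) (_ : IsOpenImmersion j) (M : U.Modules) (r : ℕ),
      x ∈ j.opensRange ∧ Nonempty (M ≅ FlatMod.freeMod U r) ∧
      Nonempty ((DCoh.restrictD j).obj E ≅ (DerivedCategory.singleFunctor U.Modules 0).obj M) := by
    intro x
    obtain ⟨z, hz, hzc⟩ := nonempty_inter_closedPoints (Z := closure ({x} : Set X))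
      ⟨x, subset_closure rfl⟩ isClosed_closure.isLocallyClosed
    obtain ⟨U, j, hj, M, r, hzU, hM, he⟩ := exists_single_nhd E hE z 0 (h z hzc)
    refine ⟨U, j, hj, M, r, ?_, hM, he⟩
    obtain ⟨w, hw, hwx⟩ := mem_closure_iff.1 hz j.opensRange j.opensRange.isOpen hzU
    rwa [Set.mem_singleton_iff.1 hwx] at hw
  choose U j hj M r hx hM he using key
  have hcov : ∀ x : X, ∃ i, x ∈ (j i).opensRange := fun x => ⟨x, hx x⟩
  have hz : ∀ i : ℤ, i ≠ 0 → IsZero (DCoh.HD E i) := fun i hi =>
    Groth.L21.Mod.isZero_of_restrict j (fun x => ⟨x, hx x⟩) _ fun x => by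
      haveI := hj x
      exact ((Groth.L29.RelPC.isZero_HD_inD (N := M x) hi).of_iso
        ((DerivedCategory.homologyFunctor _ i).mapIso (he x).some)).of_iso (HDResIso (j x) E i).symm
  haveI : E.IsGE 0 := (DerivedCategory.isGE_iff _ _).2 fun i hi => hz i (by omega)
  haveI : E.IsLE 0 := (DerivedCategory.isLE_iff _ _).2 fun i hi => hz i (by omega)
  obtain ⟨e⟩ := Groth.L10.exists_iso_single_H E 0
  refine ⟨DCoh.HD E 0, fun x => ?_, ⟨e⟩⟩
  haveI := hj x
  obtain ⟨a⟩ := Groth.L29.RelPC.nonempty_HD0_inD (M x)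
  let i₀ : (DCoh.HD E 0).restrict (j x) ≅ FlatMod.freeMod (U x) (r x) :=
    (HDResIso (j x) E 0).symm ≪≫ (DerivedCategory.homologyFunctor _ 0).mapIso (he x).some ≪≫ a ≪≫ (hM x).some
  obtain ⟨i₁⟩ := Groth.L05.OmegaRank.free_opensRange (DCoh.HD E 0) (j x) i₀
  exact ⟨_, r x, hx x, ⟨i₁⟩⟩

variable (k : Type u) [Field k] [IsAlgClosed k]
    (A At : Over (Spec (CommRingCat.of k))) [GrpObj A] [IsProper A.hom] [Smooth A.hom] [GeometricallyConnected A.hom]
    [GrpObj At] [IsProper At.hom] [Smooth At.hom] [GeometricallyConnected At.hom]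
    (φ : ∀ T : Over (Spec (CommRingCat.of k)), PicF.Cl (PicF.XT A.hom T) → (T ⟶ At))
    (hφ : AbDual.IsDualAV Scheme.fppfPrecoverage A At φ)
    (P : (pullback A.hom At.hom).Modules) (hP : PicF.IsInvertible P)
    (hPξ : AbDual.IsPoincareCl A At φ (PicF.cl P))
    [DCoh.HasLpull (pullback.fst A.hom At.hom)] [DCoh.HasLTensorMod P] [DCoh.HasRpush (pullback.snd A.hom At.hom)]

include hφ hP hPξ in
set_option maxHeartbeats 1000000 in
theorem exists_finLocFree_phi_of_it0 (H : A.left.Modules) (hH : Coh.IsCoh H)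
    (hH0 : ∀ (α : 𝟙_ (Over (Spec (CommRingCat.of k))) ⟶ At) (i : ℕ), 1 ≤ i → Subsingleton (Coh.HH A.left (CohB1.tensorMod H ((Scheme.Modules.pullback (CartesianMonoidalCategory.lift (𝟙 A) (toUnit A ≫ α)).left).obj P)) i)) :
    ∃ N : At.left.Modules, FlatMod.IsFinLocFree N ∧ Nonempty ((DCoh.Lpull (pullback.fst A.hom At.hom) ⋙
      DCoh.LTensorMod P ⋙ DCoh.Rpush (pullback.snd A.hom At.hom)).obj (DCoh.inD A.left H) ≅ DCoh.inD At.left N) := by
  haveI := fun {A B : Scheme.{u}} (f : A ⟶ B) => KFlat.hasLpull f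
  haveI := fun {A B : Scheme.{u}} (f : A ⟶ B) => RpushQC.hasRpush f
  haveI := fun {V : Scheme.{u}} (E : CochainComplex V.Modules ℤ) => KFlat.hasLTensorCx E
  haveI := fun {V : Scheme.{u}} (M : V.Modules) => DerivedApi.hasLTensorMod M
  haveI := QRlim.enoughKInj A.left
  haveI : DCoh.HasRΓ A.left := Groth.L10.KInjDerived.hasRightDerivedFunctor _
  haveI : IsLocallyNoetherian A.left := LocallyOfFiniteType.isLocallyNoetherian A.hom
  haveI : IsLocallyNoetherian At.left := LocallyOfFiniteType.isLocallyNoetherian At.hom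
  haveI : JacobsonSpace At.left := LocallyOfFiniteType.jacobsonSpace At.hom
  have hHp := isPerfect_inD_of_smooth A.hom H hH
  refine exists_finLocFree_of_betti _ (isPerfect_phiMod k A At P hP _ hHp) fun y hy j hj => ?_
  obtain ⟨α, hα⟩ : ∃ α : 𝟙_ (Over (Spec (CommRingCat.of k))) ⟶ At, ∀ p, α.left p = y :=
    ⟨Over.homMk (pointOfClosedPoint At.hom y hy) (pointOfClosedPoint_comp At.hom y hy),
      fun p => pointOfClosedPoint_apply At.hom y hy p⟩
  let p : ↥(𝟙_ (Over (Spec (CommRingCat.of k)))).left := IsLocalRing.closedPoint k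
  rw [← hα p]
  refine betti_eq_zero_of_hyper k A At φ hφ P hP hPξ _ hHp α p j ?_
  have hPα : FlatMod.IsFinLocFree ((Scheme.Modules.pullback
      (CartesianMonoidalCategory.lift (𝟙 A) (toUnit A ≫ α)).left).obj P) :=
    Groth.L29.LocFree.pullback _ (Groth.L10.FMBC.isFinLocFree_of_invertible hP)
  obtain ⟨e⟩ := nonempty_ltm_single _ H hPα
  refine IsZero.of_iso ?_ ((DerivedCategory.homologyFunctor _ j).mapIso ((DCoh.RΓ A.left).mapIso e))
  exact isZero_H_inD _ j fun i hi => ⟨by omega, hH0 α i (by omega)⟩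

end Groth.L29.GV
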