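import Groth.Agent.Lead.GammaHom
import Groth.Agent.L10.SerrePerf.Duality

/-!
Vanishing of hypercohomology and of morphisms into the dualizing complex.
-/

set_option autoImplicit false
set_option linter.style.haveILetI false
set_option backward.defeqAttrib.useBackward true
set_option backward.isDefEq.respectTransparency false
set_option backward.isDefEq.respectTransparency.types false

universe u

open CategoryTheory CategoryTheory.Limits AlgebraicGeometry Opposite DerivedCategory

attribute [local instance] HasDerivedCategory.standard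

noncomputable section

namespace Groth.L29.GV

open Groth.L00 Groth.L29 Groth.L29.DC Groth.L29.BCAdj Groth.L07.BvdB.DualFun

variable {X : Scheme.{u}}

local notation "c" => ComplexShape.up ℤ

set_option maxHeartbeats 800000 in
/-- hypercohomology in degree zero vanishes when there are no morphisms out of the structure sheaf -/
theorem isZero_H0_of_hom [DCoh.HasRΓ X] (E : DCoh.D X) (h : ∀ φ : OD X ⟶ E, φ = 0) :
    IsZero ((homologyFunctor AddCommGrpCat.{u} 0).obj ((DCoh.RΓ X).obj E)) := by
  haveI := Groth.L29.DC.QRlim.enoughKInj X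
  obtain ⟨⟨J, hJ⟩, ⟨e⟩⟩ := Functor.EssSurj.mem_essImage
    (F := (Groth.L10.KInjDerived.kInj X.Modules).ι ⋙ DerivedCategory.Qh) E
  haveI : CochainComplex.IsKInjective J.as := hJ
  let q := HomotopyCategory.quotient X.Modules c
  let S := (CochainComplex.singleFunctor X.Modules 0).obj (Coh.structureModule X)
  let η := (DCoh.gammaKh X).totalRightDerivedUnit DerivedCategory.Qh (HomotopyCategory.quasiIso X.Modules c)
  haveI : IsIso (η.app (q.obj J.as)) := Groth.L10.KInjDerived.isIso_app_quotient (RF := DCoh.RΓ X) η _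
  let G := ((DCoh.gammaAb X).mapHomologicalComplex c).obj J.as
  suffices hG : IsZero (G.homology 0) by
    refine hG.of_iso (Iso.symm ?_)
    refine ((HomotopyCategory.homologyFunctorFactors AddCommGrpCat.{u} c 0).app G).symm ≪≫
      ((homologyFunctorFactorsh AddCommGrpCat.{u} 0).app _).symm ≪≫
      (homologyFunctor AddCommGrpCat.{u} 0).mapIso (asIso (η.app (q.obj J.as)) ≪≫ (DCoh.RΓ X).mapIso e)
  rw [← HomologicalComplex.exactAt_iff_isZero_homology,
    HomologicalComplex.exactAt_iff' _ (-1) 0 1 (by simp) (by simp), ShortComplex.ab_exact_iff]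
  intro σ hσ
  let x : Coh.structureModule X ⟶ J.as.X 0 := Groth.L16.homOfSection (J.as.X 0) σ
  have hx : x ≫ J.as.d 0 1 = 0 := by
    rw [← Groth.L18.GenLoc.homOfSection_secOf (x ≫ J.as.d 0 1),
      ← Groth.L18.GenLoc.homOfSection_secOf (0 : Coh.structureModule X ⟶ J.as.X 1)]
    refine congrArg _ ?_
    change (J.as.d 0 1).app ⊤ (Groth.L18.GenLoc.secOf x) = _
    rw [Groth.L18.GenLoc.secOf_homOfSection]
    exact hσ
  let ψ : S ⟶ J.as := HomologicalComplex.mkHomFromSingle x (fun k hk => by
    obtain rfl : k = 1 := by simp at hk; omega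
    exact hx)
  have h0 : (quotientCompQhIso X.Modules).inv.app S ≫ DerivedCategory.Qh.map (q.map ψ) ≫ e.hom = 0 := h _
  have hq : DerivedCategory.Qh.map (q.map ψ) = DerivedCategory.Qh.map 0 := by
    rw [Functor.map_zero, ← cancel_mono e.hom, ← cancel_epi ((quotientCompQhIso X.Modules).inv.app S), zero_comp,
      comp_zero]
    exact h0
  let H := HomotopyCategory.homotopyOfEq ψ 0
    (((Groth.L10.KInjDerived.qh_bijective (q.obj S) ⟨J, hJ⟩).injective hq).trans (q.map_zero _ _).symm)
  let v : Coh.structureModule X ⟶ J.as.X (-1) :=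
    (HomologicalComplex.singleObjXSelf c 0 (Coh.structureModule X)).inv ≫ H.hom 0 (-1)
  have hv : v ≫ J.as.d (-1) 0 = x := by
    have h1 := H.comm 0
    rw [dNext_eq H.hom (show (ComplexShape.up ℤ).Rel (0 : ℤ) 1 by simp),
      prevD_eq H.hom (show (ComplexShape.up ℤ).Rel (-1) 0 by simp)] at h1
    simp [ψ, S, CochainComplex.singleFunctor, CochainComplex.singleFunctors] at h1
    simp only [v, Category.assoc]
    rw [← h1, ← Category.assoc, Iso.inv_hom_id, Category.id_comp]
  exact ⟨Groth.L18.GenLoc.secOf v,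
    (congrArg Groth.L18.GenLoc.secOf hv).trans (Groth.L18.GenLoc.secOf_homOfSection σ)⟩

/-- hypercohomology in degree `j` through the shift -/
theorem isZero_H_shift_iff [DCoh.HasRΓ X] (E : DCoh.D X) (j : ℤ) :
    IsZero ((homologyFunctor AddCommGrpCat.{u} j).obj ((DCoh.RΓ X).obj E)) ↔
      IsZero ((homologyFunctor AddCommGrpCat.{u} 0).obj ((DCoh.RΓ X).obj (E⟦j⟧))) := by
  letI := Groth.Lead.GammaHom.commShiftRΓ (X := X)
  exact Iso.isZero_iff ((Groth.L10.hShiftIso (A := AddCommGrpCat.{u}) ((DCoh.RΓ X).obj E) j 0 j (by omega)).symm ≪≫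
    (homologyFunctor AddCommGrpCat.{u} 0).mapIso (((DCoh.RΓ X).commShiftIso j).app E).symm)

/-- morphisms into the adjoint of the structure sheaf of a field vanish with morphisms out of the structure sheaf -/
theorem hom_dualizing_eq_zero (k : Type u) [Field k] (f : X ⟶ Spec (CommRingCat.of k)) [DCoh.HasRpush f]
    (hf : DCoh.RpushPreservesQCoh f) (a : DCoh.DQCoh (Spec (CommRingCat.of k)) ⥤ DCoh.DQCoh X)
    (adj : DCoh.RpushQ f hf ⊣ a) (O : DCoh.DQCoh (Spec (CommRingCat.of k)))
    (eO : O.obj ≅ OD (Spec (CommRingCat.of k))) (M : DCoh.D X) (hM : DCoh.IsQCohD M)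
    (h : ∀ φ : OD X ⟶ M, φ = 0) (ψ : M ⟶ (a.obj O).obj) : ψ = 0 := by
  letI iS : (Spec (CommRingCat.of k)).Over (Spec (CommRingCat.of k)) := ⟨𝟙 _⟩
  haveI := KFlat.hasLpull f
  obtain ⟨o⟩ := nonempty_Lpull_OD f
  obtain ⟨p, hp⟩ := Groth.L10.SerrePerf.exists_functional k
  have hS : ∀ x : OD (Spec (CommRingCat.of k)) ⟶ (DCoh.Rpush f).obj M, x = 0 := by
    have hs : ∀ y : (DCoh.Lpull f).obj (OD (Spec (CommRingCat.of k))) ⟶ M, y = 0 := fun y => by
      rw [← cancel_epi o.inv, comp_zero]
      exact h _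
    intro x
    exact ((BC.adj f).homEquiv _ M).symm.injective ((hs _).trans (hs _).symm)
  have h0 : ∀ φ : (DCoh.Rpush f).obj M ⟶ OD (Spec (CommRingCat.of k)), φ = 0 := fun φ =>
    (hp _ (hf M hM)).injective (LinearMap.ext fun x => by rw [hS x]; simp)
  let MQ : DCoh.DQCoh X := ⟨M, hM⟩
  have key : ∀ ψ' : M ⟶ (a.obj O).obj, ψ' = ψ := fun ψ' => by
    have hh : (adj.homEquiv MQ O).symm (ObjectProperty.homMk ψ') =
        (adj.homEquiv MQ O).symm (ObjectProperty.homMk ψ) :=
      ObjectProperty.hom_ext _ ((cancel_mono eO.hom).1 ((h0 _).trans (h0 _).symm))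
    exact congrArg (fun t => t.hom) ((adj.homEquiv MQ O).symm.injective hh)
  exact (key 0).symm

end Groth.L29.GV
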