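import Groth.Agent.L29.GV.IT0
import Groth.Agent.L10.FMK.GV
import Groth.Agent.L29.GV.SerreVanish
import Groth.Agent.L07.BvdB.DualHom
import Groth.Agent.S14125
import Groth.Agent.S14132
import Groth.Agent.S14134
import Groth.Agent.S12384
import Groth.Agent.L08.GrpDim
import Groth.Agent.Lead.FlatPerfect
import Groth.Agent.L16.QcqsPush

/-!
Tensor products of a GV object with an IT(0) sheaf.
-/

set_option autoImplicit false
set_option linter.style.haveILetI false
set_option backward.defeqAttrib.useBackward true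
set_option backward.isDefEq.respectTransparency false
set_option backward.isDefEq.respectTransparency.types false

universe u

open CategoryTheory CategoryTheory.Limits MonoidalCategory CartesianMonoidalCategory MonObj GrpObj AlgebraicGeometry TopologicalSpace

attribute [local instance] HasDerivedCategory.standard

noncomputable section

namespace Groth.L29.GV

open Groth.L00 Groth.L29.DC Groth.Lead Groth.L10

/-- hypercohomology above the dimension under a codimension bound in non-negative degrees -/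
theorem isZero_hyper_pos {Y : Scheme.{u}} [NoetherianSpace ↥Y] {g : ℕ}
    (hg : topologicalKrullDim ↥Y ≤ (g : WithBot ℕ∞)) [DCoh.HasRΓ Y] (K : DCoh.D Y) (hK : DCoh.IsPerfect K)
    (hcodim : ∀ (i : ℕ) (y : ↥Y), y ∈ CohB1.support (DCoh.HD K (i : ℤ)) →
      (i : WithBot ℕ∞) ≤ ringKrullDim ↑(Y.presheaf.stalk y))
    {N : Y.Modules} (hN : FlatMod.IsFinLocFree N) [DCoh.HasLTensorCx (LTMod.S0 N)]
    (i : ℤ) (hi : (g : ℤ) < i) :
    IsZero ((DerivedCategory.homologyFunctor AddCommGrpCat.{u} i).obj ((DCoh.RΓ Y).obj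
      ((DCoh.LTensorCx (LTMod.S0 N)).obj K))) := by
  haveI := QRlim.enoughKInj Y
  haveI : EnoughInjectives Y.Modules := (Groth.L10.ModRDer.insts Y.sheaf).1
  haveI : HasInjectiveResolutions Y.Modules := inferInstance
  haveI := fun p => Groth.L00.RDerLES.additive (DCoh.gammaAb Y) p
  haveI := Functor.preservesZeroMorphisms_of_additive (DCoh.tensorRightMod N)
  obtain ⟨a, b, hge, hle⟩ := Groth.L29.CohSupp.exists_bounds_of_perfect hK
  let K' := (DCoh.LTensorCx (LTMod.S0 N)).obj K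
  have hcod' : ∀ (j : ℕ) (y : ↥Y), y ∈ CohB1.support (DCoh.HD K' (j : ℤ)) →
      (j : WithBot ℕ∞) ≤ ringKrullDim ↑(Y.presheaf.stalk y) := fun j y hy => by
    refine hcodim j y (Groth.L10.FMK.support_tensor_subset _ N ?_)
    refine fun hs => hy ?_
    exact @Equiv.subsingleton _ _
      ((Groth.L00.Stk.F Y y).mapIso (Groth.L10.FMK.nonempty_HD_tensor hN K j).some).toLinearEquiv.toEquiv hs
  have hlow : ∀ j : ℤ, j < a → IsZero (DCoh.HD K' j) := fun j hj =>
    ((DCoh.tensorRightMod N).map_isZero (DerivedCategory.isZero_of_isGE K a j hj)).of_iso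
      (Groth.L10.FMK.nonempty_HD_tensor hN K j).some
  have htop : ∀ j : ℤ, (g : ℤ) < j → IsZero (DCoh.HD K' j) := fun j hj => by
    obtain ⟨j', rfl⟩ : ∃ j' : ℕ, j = j' := ⟨j.toNat, by omega⟩
    exact Groth.L10.FMK.isZero_of_codim hg _ j' (hcod' j') (by omega)
  let α := (DCoh.gammaKh Y).totalRightDerivedUnit DerivedCategory.Qh (HomotopyCategory.quasiIso Y.Modules (ComplexShape.up ℤ))
  refine Groth.L10.FMK.isZero_H_of_graded (F := DCoh.gammaAb Y) α (g : ℤ) i ((g : ℤ) + 1 - a).toNat K'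
    ((DerivedCategory.isGE_iff _ _).2 fun j hj => hlow j (by omega)) ((DerivedCategory.isLE_iff _ _).2 htop)
    fun j hj1 hj2 p hp => ?_
  obtain ⟨q, rfl⟩ : ∃ q, p = q + 1 := ⟨p - 1, by omega⟩
  refine Groth.L10.FMK.isZero_gamma_rightDerived q _ ?_
  by_cases hj : 0 ≤ j
  · obtain ⟨j', rfl⟩ : ∃ j' : ℕ, j = j' := ⟨j.toNat, by omega⟩
    exact Groth.L10.FMK.subsingleton_HH_of_codim hg _ j' (hcod' j') (q + 1) (by omega) q.succ_pos
  · exact Groth.L10.FMK.subsingleton_HH_of_codim hg _ 0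
      (fun y _ => by rw [ringKrullDim_stalk_eq_coheight]; exact WithBot.coe_le_coe.2 bot_le) (q + 1) (by omega) q.succ_pos

variable (k : Type u) [Field k] [IsAlgClosed k]
    (A At : Over (Spec (CommRingCat.of k))) [GrpObj A] [IsProper A.hom] [Smooth A.hom] [GeometricallyConnected A.hom]
    [GrpObj At] [IsProper At.hom] [Smooth At.hom] [GeometricallyConnected At.hom]
    (φ : ∀ T : Over (Spec (CommRingCat.of k)), PicF.Cl (PicF.XT A.hom T) → (T ⟶ At))
    (hφ : AbDual.IsDualAV Scheme.fppfPrecoverage A At φ)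
    (P : (pullback A.hom At.hom).Modules) (hP : PicF.IsInvertible P)
    (hPξ : AbDual.IsPoincareCl A At φ (PicF.cl P))

omit [IsAlgClosed k] in
/-- the reverse transform on either order of the factors -/
theorem nonempty_psi_swap {X Y : Scheme.{u}} (a : X ⟶ Spec (CommRingCat.of k)) (b : Y ⟶ Spec (CommRingCat.of k))
    [QuasiCompact b] [QuasiSeparated b] (L : (pullback a b).Modules) (hL : PicF.IsInvertible L)
    [DCoh.HasLpull (pullback.snd a b)] [DCoh.HasLTensorMod L] [DCoh.HasRpush (pullback.fst a b)]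
    [DCoh.HasLTensorCx (LTMod.S0 L)]
    [DCoh.HasLpull (pullback.fst b a)] [DCoh.HasLTensorMod ((Scheme.Modules.pullback (pullbackSymmetry b a).hom).obj L)]
    [DCoh.HasRpush (pullback.snd b a)] [Flat b]
    (M : DCoh.D Y) (hM : DCoh.IsQCohD M) :
    Nonempty ((DCoh.Lpull (pullback.snd a b) ⋙ DCoh.LTensorCx (LTMod.S0 L) ⋙
        DCoh.Rpush (pullback.fst a b)).obj M ≅
      (DCoh.Lpull (pullback.fst b a) ⋙ DCoh.LTensorMod ((Scheme.Modules.pullback (pullbackSymmetry b a).hom).obj L) ⋙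
        DCoh.Rpush (pullback.snd b a)).obj M) := by
  haveI := fun {A B : Scheme.{u}} (f : A ⟶ B) => KFlat.hasLpull f
  let σ := (pullbackSymmetry b a).hom
  have hσ : IsPullback σ (pullback.snd b a) (pullback.fst a b) (𝟙 X) :=
    IsPullback.of_horiz_isIso ⟨by simp [σ]⟩
  obtain ⟨ks⟩ := Groth.L10.FMBC.nonempty_pull_kernelMod (π := 𝟙 Y) (p₁ := pullback.snd a b)
    (q₁ := pullback.fst b a) (h := σ) (by simp [σ]) hσ L hL
    ((Scheme.Modules.pullback σ).obj L) ⟨Iso.refl _⟩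
  let f₃ := ks.app ⟨M, hM⟩
  obtain ⟨i₁⟩ := Groth.L10.FMDiag.nonempty_Lpull_id (X := Y)
  obtain ⟨i₂⟩ := Groth.L10.FMDiag.nonempty_Lpull_id (X := X)
  exact ⟨(DCoh.Rpush (pullback.fst a b)).mapIso ((LTMod.iso L).symm.app _) ≪≫ (i₂.app _).symm ≪≫ f₃.symm ≪≫
    (DCoh.Rpush (pullback.snd b a)).mapIso ((DCoh.LTensorMod _).mapIso ((DCoh.Lpull _).mapIso (i₁.app M)))⟩

omit [IsAlgClosed k] in
/-- pulling back a direct image of a module along an isomorphism -/
theorem nonempty_Lpull_Rpush_iso {X Y : Scheme.{u}} (i : X ⟶ Y) [IsIso i] [DCoh.HasLpull i] [DCoh.HasRpush i]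
    (H : X.Modules) [Coh.IsQCoh H] :
    Nonempty ((DCoh.Lpull i).obj ((DCoh.Rpush i).obj (DCoh.inD X H)) ≅ DCoh.inD X H) := by
  obtain ⟨r⟩ := Groth.Lead.FlatPerfect.nonempty_Rpush_single i H
  obtain ⟨l⟩ := nonempty_Lpull_iso_restrictD i ((DCoh.Rpush i).obj (DCoh.inD X H))
  exact ⟨l ≪≫ (DCoh.restrictD i).mapIso r ≪≫
    ((Scheme.Modules.restrictFunctor i).mapDerivedCategorySingleFunctor 0).app _ ≪≫
    (DerivedCategory.singleFunctor X.Modules 0).mapIso
      ((asIso (Scheme.Modules.restrictAdjunction i).counit).app H)⟩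

include hφ hP hPξ in
set_option maxHeartbeats 1600000 in
/-- an IT(0) sheaf is, up to shift, the transform of a locally free module -/
theorem exists_psi_single [DCoh.HasLTensorCx (LTMod.S0 P)] [DCoh.HasLpull (pullback.snd A.hom At.hom)]
    [DCoh.HasRpush (pullback.fst A.hom At.hom)] (H : A.left.Modules) (hH : Coh.IsCoh H)
    (hH0 : ∀ (α : 𝟙_ (Over (Spec (CommRingCat.of k))) ⟶ At) (i : ℕ), 1 ≤ i → Subsingleton (Coh.HH A.left (CohB1.tensorMod H ((Scheme.Modules.pullback (CartesianMonoidalCategory.lift (𝟙 A) (toUnit A ≫ α)).left).obj P)) i))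
    (g : ℕ) (hg : topologicalKrullDim ↥A.left = g) :
    ∃ N : At.left.Modules, FlatMod.IsFinLocFree N ∧
      Nonempty ((DCoh.Lpull (pullback.snd A.hom At.hom) ⋙ DCoh.LTensorCx (LTMod.S0 P) ⋙
        DCoh.Rpush (pullback.fst A.hom At.hom)).obj (DCoh.inD At.left N) ≅ (DCoh.inD A.left H)⟦-(g : ℤ)⟧) := by
  haveI := fun {A B : Scheme.{u}} (f : A ⟶ B) => KFlat.hasLpull f
  haveI := fun {A B : Scheme.{u}} (f : A ⟶ B) => RpushQC.hasRpush f
  haveI := fun {V : Scheme.{u}} (M : V.Modules) => DerivedApi.hasLTensorMod M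
  haveI : GeometricallyIntegral A.hom := Groth.Agent.L26.Mumford.geometricallyIntegral_av A
  haveI : IsCommMonObj A := isCommMonObj_of_isProper_of_geometricallyIntegral A
  haveI : GeometricallyIntegral At.hom := Groth.Agent.L26.Mumford.geometricallyIntegral_av At
  haveI : IsCommMonObj At := isCommMonObj_of_isProper_of_geometricallyIntegral At
  haveI : IsLocallyNoetherian A.left := LocallyOfFiniteType.isLocallyNoetherian A.hom
  obtain ⟨N₀, hN₀, ⟨e₀⟩⟩ := exists_finLocFree_phi_of_it0 k A At φ hφ P hP hPξ H hH hH0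
  -- inversion
  let iA : A ⟶ A := ι[A]
  let iT : At ⟶ At := ι[At]
  haveI : IsIso iA.left := inferInstanceAs (IsIso ((Over.forget _).map iA))
  haveI : IsIso iT.left := inferInstanceAs (IsIso ((Over.forget _).map iT))
  haveI : Coh.IsQCoh H := hH.1
  let X := (DCoh.Rpush iA.left).obj (DCoh.inD A.left H)
  obtain ⟨r⟩ := Groth.Lead.FlatPerfect.nonempty_Rpush_single iA.left H
  have hXp : DCoh.IsQCohD X := by
    exact isQCohD_of_iso r.symm (LTMod.isQCohD_inD_of (Groth.L16.QcqsPush.isQCoh_push (M := H) iA.left))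
  obtain ⟨e₁⟩ := Groth.Agent.S14132.result k A At A At φ hφ φ hφ P hP hPξ P hP hPξ iA iT
    (Groth.Agent.S12384.result A At φ hφ)
  let f₁ := e₁.app ⟨DCoh.inD A.left H, LTMod.isQCohD_inD_of hH.1⟩
  -- the inverse transform
  obtain ⟨e₂⟩ := Groth.Agent.S14125.result k A At φ hφ P hP hPξ g hg
  let f₂ := e₂.app ⟨X, hXp⟩
  obtain ⟨l⟩ := nonempty_Lpull_iso_restrictD iT.left (DCoh.inD At.left N₀)
  let N := N₀.restrict iT.left
  have hN : FlatMod.IsFinLocFree N := Groth.L29.LocFree.of_iso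
    ((Scheme.Modules.restrictFunctorIsoPullback iT.left).app N₀).symm (Groth.L29.LocFree.pullback iT.left hN₀)
  let eN : (DCoh.Lpull iT.left).obj (DCoh.inD At.left N₀) ≅ DCoh.inD At.left N :=
    l ≪≫ ((Scheme.Modules.restrictFunctor iT.left).mapDerivedCategorySingleFunctor 0).app N₀
  obtain ⟨f₄⟩ := nonempty_psi_swap k A.hom At.hom P hP (DCoh.inD At.left N)
    (LTMod.isQCohD_inD_of (Groth.L29.DC.PCQCoh.isQCoh_of_isFinLocFree hN))
  obtain ⟨f₆⟩ := nonempty_Lpull_Rpush_iso iA.left H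
  let Ψ' := DCoh.Lpull (pullback.fst At.hom A.hom) ⋙
    DCoh.LTensorMod ((Scheme.Modules.pullback (pullbackSymmetry At.hom A.hom).hom).obj P) ⋙
    DCoh.Rpush (pullback.snd At.hom A.hom)
  have hi : ((𝟙 A)⁻¹ : A ⟶ A).left = iA.left := by rw [← GrpObj.inv_eq_inv]
  have hh : (DCoh.Lpull ((𝟙 A)⁻¹ : A ⟶ A).left).obj X = (DCoh.Lpull iA.left).obj X := by simp only [hi]
  exact ⟨N, hN, ⟨f₄ ≪≫ Ψ'.mapIso (eN.symm ≪≫ (DCoh.Lpull iT.left).mapIso e₀.symm ≪≫ f₁.symm) ≪≫ f₂ ≪≫
    (shiftFunctor _ _).mapIso (eqToIso hh ≪≫ f₆)⟩⟩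

end Groth.L29.GV
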