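import Groth.Prelude.Def_DualFM
import Groth.Agent.L29.Dual.PushDual
import Groth.Agent.Lead.FlatPerfectCx

/-!
Kernel functors commute with shifts.
-/

set_option autoImplicit false
set_option linter.style.haveILetI false
set_option backward.defeqAttrib.useBackward true
set_option backward.isDefEq.respectTransparency false
set_option backward.isDefEq.respectTransparency.types false

universe u

open CategoryTheory CategoryTheory.Limits AlgebraicGeometry

attribute [local instance] HasDerivedCategory.standard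

noncomputable section

namespace Groth.L29.GV

open Groth.L00 Groth.L29.DC Groth.L29.BCAdj

variable {X Y S : Scheme.{u}}

/-- `M⟦n⟧ ⊗^L K = (M ⊗^L K)⟦n⟧` -/
theorem nonempty_LT_shift (K : CochainComplex X.Modules ℤ) [DCoh.HasLTensorCx K] (M : DCoh.D X) (n : ℤ) :
    Nonempty ((DCoh.LTensorCx K).obj (M⟦n⟧) ≅ ((DCoh.LTensorCx K).obj M)⟦n⟧) := by
  haveI := fun F : CochainComplex X.Modules ℤ => KFlat.hasLTensorCx F
  obtain ⟨K₁, hK₁, ⟨k⟩⟩ := Groth.L07.BvdB.DualHom.exists_kflat_rep (DCoh.toD X K)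
  obtain ⟨c⟩ := RHom.nonempty_lt_iso k
  obtain ⟨P, hP, ⟨e⟩⟩ := Groth.L07.BvdB.DualHom.exists_kflat_rep M
  obtain ⟨sh⟩ := Groth.Lead.FlatPerfect.nonempty_LTensorCx_shift K₁ hK₁ P n
  exact ⟨(c.app _).symm ≪≫ (DCoh.LTensorCx K₁).mapIso ((shiftFunctor _ n).mapIso e.symm ≪≫
      ((DerivedCategory.Q.commShiftIso n).app P).symm) ≪≫ sh ≪≫
    (shiftFunctor _ n).mapIso ((DCoh.LTensorCx K₁).mapIso e ≪≫ c.app M)⟩

/-- `Φ(M⟦n⟧) = Φ(M)⟦n⟧` -/
theorem nonempty_phi_shift (a : X ⟶ S) (b : Y ⟶ S) (K : CochainComplex (pullback a b).Modules ℤ)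
    [DCoh.HasLpull (pullback.fst a b)] [DCoh.HasLTensorCx K] [DCoh.HasRpush (pullback.snd a b)]
    (M : DCoh.D X) (n : ℤ) :
    Nonempty ((FMK.phi a b K).obj (M⟦n⟧) ≅ ((FMK.phi a b K).obj M)⟦n⟧) := by
  letI := BC.commShiftLpull (pullback.fst a b)
  letI := Gen.commShiftRpush (pullback.snd a b)
  obtain ⟨c⟩ := nonempty_LT_shift K ((DCoh.Lpull (pullback.fst a b)).obj M) n
  exact ⟨(DCoh.Rpush (pullback.snd a b)).mapIso ((DCoh.LTensorCx K).mapIso
      (((DCoh.Lpull (pullback.fst a b)).commShiftIso n).app M) ≪≫ c) ≪≫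
    ((DCoh.Rpush (pullback.snd a b)).commShiftIso n).app _⟩

end Groth.L29.GV
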