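import Groth.Agent.L29.GV.IT0Tensor
import Groth.Agent.L29.GV.PhiShift
import Groth.Agent.Lead.GammaHom

/-!
Positive hypercohomology of the product of a GV object with an IT(0) sheaf vanishes.
-/

set_option autoImplicit false
set_option linter.style.haveILetI false
set_option backward.defeqAttrib.useBackward true
set_option backward.isDefEq.respectTransparency false
set_option backward.isDefEq.respectTransparency.types false

universe u

open CategoryTheory CategoryTheory.Limits MonoidalCategory CartesianMonoidalCategory MonObj GrpObj AlgebraicGeometry TopologicalSpace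

attribute [local instance] HasDerivedCategory.standard

noncomputable section

namespace Groth.L29.GV

open Groth.L00 Groth.L29.DC Groth.Lead Groth.L10

/-- exchange of the factors -/
theorem nonempty_rearrange {X : Scheme.{u}} (L H : X.Modules) (hL : PicF.IsInvertible L)
    (G : DCoh.D X) (G' : CochainComplex X.Modules ℤ) (hG' : DCoh.IsKFlat G')
    [DCoh.HasLTensorMod L] [DCoh.HasLTensorMod H] [DCoh.HasLTensorCx G']
    (eG' : DCoh.toD X G' ≅ (DCoh.LTensorMod L).obj G) :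
    Nonempty ((DCoh.LTensorMod L).obj ((DCoh.LTensorMod H).obj G) ≅
      (DCoh.LTensorCx G').obj (DCoh.inD X H)) := by
  haveI := fun {V : Scheme.{u}} (E : CochainComplex V.Modules ℤ) => KFlat.hasLTensorCx E
  obtain ⟨Hk, hHk, ⟨eH⟩⟩ := Groth.L07.BvdB.DualHom.exists_kflat_rep (DCoh.toD X (LTMod.S0 H))
  obtain ⟨c⟩ := Groth.L29.BC.ProjQC.nonempty_LTensorCx_congr eH.symm
  have hLk : DCoh.IsKFlat (LTMod.S0 L) := Groth.L10.FMBC.isKFlat_S0 hL
  obtain ⟨a₁⟩ := Groth.L10.FMBC.nonempty_assocD (LTMod.S0 L) Hk hLk hHk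
  obtain ⟨a₂⟩ := Groth.L10.FMBC.nonempty_assocD Hk (LTMod.S0 L) hHk hLk
  haveI := KFlat.hasLTensorCx ((DCoh.tensorCx.obj (LTMod.S0 L)).obj Hk)
  haveI := KFlat.hasLTensorCx ((DCoh.tensorCx.obj Hk).obj (LTMod.S0 L))
  obtain ⟨cc⟩ := Groth.L29.BC.ProjQC.nonempty_LTensorCx_congr
    (A := (DCoh.tensorCx.obj Hk).obj (LTMod.S0 L)) (B := (DCoh.tensorCx.obj (LTMod.S0 L)).obj Hk)
    (DerivedCategory.Q.mapIso (show (DCoh.tensorCx.obj Hk).obj (LTMod.S0 L) ≅ (DCoh.tensorCx.obj (LTMod.S0 L)).obj Hk from KFlat.commIso (LTMod.S0 L) Hk))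
  obtain ⟨sw⟩ := Groth.L07.BvdB.DualHom.nonempty_lt_swap hHk hG'
  -- `L ⊗ (H ⊗ G) ≅ H ⊗ (L ⊗ G)`
  let e₁ : (DCoh.LTensorMod L).obj ((DCoh.LTensorMod H).obj G) ≅
      (DCoh.LTensorCx (LTMod.S0 L)).obj ((DCoh.LTensorCx Hk).obj G) :=
    (LTMod.iso L).app _ ≪≫ (DCoh.LTensorCx (LTMod.S0 L)).mapIso ((LTMod.iso H).app G ≪≫ c.app G)
  exact ⟨e₁ ≪≫ a₂.app G ≪≫ cc.app G ≪≫ (a₁.app G).symm ≪≫
    (DCoh.LTensorCx Hk).mapIso (((LTMod.iso L).app G).symm ≪≫ eG'.symm) ≪≫ sw ≪≫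
    (DCoh.LTensorCx G').mapIso (eH ≪≫ ((DerivedCategory.singleFunctorIsoCompQ X.Modules 0).app H).symm)⟩

/-- hypercohomology of a product with a shifted module -/
theorem isZero_H_LT_shift {X : Scheme.{u}} [DCoh.HasRΓ X] (F : CochainComplex X.Modules ℤ) [DCoh.HasLTensorCx F]
    (M : DCoh.D X) (g i : ℤ)
    (h : IsZero ((DerivedCategory.homologyFunctor AddCommGrpCat.{u} (g + i)).obj
      ((DCoh.RΓ X).obj ((DCoh.LTensorCx F).obj (M⟦-g⟧))))) :
    IsZero ((DerivedCategory.homologyFunctor AddCommGrpCat.{u} i).obj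
      ((DCoh.RΓ X).obj ((DCoh.LTensorCx F).obj M))) := by
  letI := Groth.Lead.GammaHom.commShiftRΓ (X := X)
  obtain ⟨sh⟩ := nonempty_LT_shift F M (-g)
  refine h.of_iso ?_
  exact (Groth.L10.hShiftIso ((DCoh.RΓ X).obj ((DCoh.LTensorCx F).obj M)) (-g) (g + i) i (by omega)).symm ≪≫
    (DerivedCategory.homologyFunctor _ (g + i)).mapIso
      ((((DCoh.RΓ X).commShiftIso (-g)).app _).symm ≪≫ (DCoh.RΓ X).mapIso sh.symm)

/-- a codimension bound on supports is invariant under an isomorphism -/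
theorem codim_of_iso {X Y : Scheme.{u}} (t : X ⟶ Y) [IsIso t] (E : DCoh.D Y) (E' : DCoh.D X)
    (e : E' ≅ (DCoh.restrictD t).obj E)
    (h : ∀ (i : ℕ) (y : ↥Y), y ∈ CohB1.support (DCoh.HD E (i : ℤ)) →
      (i : WithBot ℕ∞) ≤ ringKrullDim ↑(Y.presheaf.stalk y)) (j : ℕ) (y : ↥X)
    (hy : y ∈ CohB1.support (DCoh.HD E' (j : ℤ))) : (j : WithBot ℕ∞) ≤ ringKrullDim ↑(X.presheaf.stalk y) := by
  have h1 := (Groth.L21.Mod.support_congr ((DerivedCategory.homologyFunctor _ (j : ℤ)).mapIso e ≪≫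
    HDResIso t E (j : ℤ))).subset hy
  have h2 := h j _ ((Groth.L21.Mod.support_restrict t _).subset h1)
  rwa [ringKrullDim_eq_of_ringEquiv (asIso (t.stalkMap y)).commRingCatIsoToRingEquiv] at h2

variable (k : Type u) [Field k] [IsAlgClosed k]
    (A At : Over (Spec (CommRingCat.of k))) [GrpObj A] [IsProper A.hom] [Smooth A.hom] [GeometricallyConnected A.hom]
    [GrpObj At] [IsProper At.hom] [Smooth At.hom] [GeometricallyConnected At.hom]
    (φ : ∀ T : Over (Spec (CommRingCat.of k)), PicF.Cl (PicF.XT A.hom T) → (T ⟶ At))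
    (hφ : AbDual.IsDualAV Scheme.fppfPrecoverage A At φ)
    (P : (pullback A.hom At.hom).Modules) (hP : PicF.IsInvertible P)
    (hPξ : AbDual.IsPoincareCl A At φ (PicF.cl P))

include hφ hP hPξ in
set_option maxHeartbeats 800000 in
/-- the transform of a twist is a translate of the transform -/
theorem nonempty_phi_twist_translate [DCoh.HasLpull (pullback.fst A.hom At.hom)] [DCoh.HasLTensorMod P]
    [DCoh.HasRpush (pullback.snd A.hom At.hom)] [DCoh.HasLTensorCx (LTMod.S0 P)]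
    (α : 𝟙_ (Over (Spec (CommRingCat.of k))) ⟶ At) [IsIso (𝟙 At * (toUnit At ≫ α)).left]
    [DCoh.HasLTensorMod ((Scheme.Modules.pullback (CartesianMonoidalCategory.lift (𝟙 A) (toUnit A ≫ α)).left).obj P)]
    (F : DCoh.D A.left) (hF : DCoh.IsQCohD F) (F' : CochainComplex A.left.Modules ℤ)
    (e : DCoh.toD A.left F' ≅ (DCoh.LTensorMod ((Scheme.Modules.pullback (CartesianMonoidalCategory.lift (𝟙 A) (toUnit A ≫ α)).left).obj P)).obj F) :
    Nonempty ((FMK.phi A.hom At.hom (LTMod.S0 P)).obj (DCoh.toD A.left F') ≅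
      (DCoh.restrictD (𝟙 At * (toUnit At ≫ α)).left).obj ((DCoh.Lpull (pullback.fst A.hom At.hom) ⋙
        DCoh.LTensorMod P ⋙ DCoh.Rpush (pullback.snd A.hom At.hom)).obj F)) := by
  haveI := fun {A B : Scheme.{u}} (f : A ⟶ B) => KFlat.hasLpull f
  obtain ⟨et⟩ := Groth.Agent.S14134.result k A At φ hφ P hP hPξ α
  obtain ⟨lt⟩ := nonempty_Lpull_iso_restrictD (𝟙 At * (toUnit At ≫ α)).left
    ((DCoh.Lpull (pullback.fst A.hom At.hom) ⋙ DCoh.LTensorMod P ⋙ DCoh.Rpush (pullback.snd A.hom At.hom)).obj F)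
  exact ⟨(DCoh.Rpush (pullback.snd A.hom At.hom)).mapIso
      ((LTMod.iso P).symm.app ((DCoh.Lpull (pullback.fst A.hom At.hom)).obj (DCoh.toD A.left F')) ≪≫
        (DCoh.LTensorMod P).mapIso ((DCoh.Lpull (pullback.fst A.hom At.hom)).mapIso e)) ≪≫
    et.app ⟨F, hF⟩ ≪≫ lt⟩

include hφ hP hPξ in
set_option maxHeartbeats 1600000 in
theorem isZero_hyper_tensor_it0 [DCoh.HasLpull (pullback.fst A.hom At.hom)] [DCoh.HasLTensorMod P]
    [DCoh.HasRpush (pullback.snd A.hom At.hom)] (H : A.left.Modules) (hH : Coh.IsCoh H)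
    (hH0 : ∀ (α : 𝟙_ (Over (Spec (CommRingCat.of k))) ⟶ At) (i : ℕ), 1 ≤ i → Subsingleton (Coh.HH A.left (CohB1.tensorMod H ((Scheme.Modules.pullback (CartesianMonoidalCategory.lift (𝟙 A) (toUnit A ≫ α)).left).obj P)) i))
    (F : DCoh.D A.left) (hFp : DCoh.IsPerfect F)
    (hcodim : ∀ (i : ℕ) (y : ↥At.left), y ∈ CohB1.support (DCoh.HD ((DCoh.Lpull (pullback.fst A.hom At.hom) ⋙ DCoh.LTensorMod P ⋙ DCoh.Rpush (pullback.snd A.hom At.hom)).obj F) (i : ℤ)) →
      (i : WithBot ℕ∞) ≤ ringKrullDim ↑(At.left.presheaf.stalk y))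
    [DCoh.HasLTensorMod H]
    (α : 𝟙_ (Over (Spec (CommRingCat.of k))) ⟶ At)
    [DCoh.HasLTensorMod ((Scheme.Modules.pullback (CartesianMonoidalCategory.lift (𝟙 A) (toUnit A ≫ α)).left).obj P)]
    [DCoh.HasRΓ A.left] (i : ℤ) (hi : 1 ≤ i) :
    IsZero ((DerivedCategory.homologyFunctor AddCommGrpCat.{u} i).obj ((DCoh.RΓ A.left).obj
      ((DCoh.LTensorMod ((Scheme.Modules.pullback (CartesianMonoidalCategory.lift (𝟙 A) (toUnit A ≫ α)).left).obj P)).obj ((DCoh.LTensorMod H).obj F)))) := by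
  haveI := fun {A B : Scheme.{u}} (f : A ⟶ B) => KFlat.hasLpull f
  haveI := fun {A B : Scheme.{u}} (f : A ⟶ B) => RpushQC.hasRpush f
  haveI := fun {V : Scheme.{u}} (E : CochainComplex V.Modules ℤ) => KFlat.hasLTensorCx E
  haveI := QRlim.enoughKInj At.left
  haveI : DCoh.HasRΓ At.left := Groth.L10.KInjDerived.hasRightDerivedFunctor _
  haveI : IsLocallyNoetherian At.left := LocallyOfFiniteType.isLocallyNoetherian At.hom
  haveI : CompactSpace At.left := QuasiCompact.compactSpace_of_compactSpace At.hom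
  haveI : AlgebraicGeometry.IsNoetherian At.left := {}
  obtain ⟨g, -, hgt⟩ := Groth.L08.GrpDim.exists_dim At
  have hg : topologicalKrullDim ↥A.left = (g : WithBot ℕ∞) :=
    (Groth.Agent.L26.FMInv.dim_dual hφ P hPξ).symm.trans hgt
  let L := (Scheme.Modules.pullback (CartesianMonoidalCategory.lift (𝟙 A) (toUnit A ≫ α)).left).obj P
  have hL : PicF.IsInvertible L := Groth.L18.Ample.isInvertible_pullback _ hP
  obtain ⟨F', hF', ⟨eF'⟩⟩ := Groth.L07.BvdB.DualHom.exists_kflat_rep ((DCoh.LTensorMod L).obj F)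
  have hLF : DCoh.IsPerfect ((DCoh.LTensorMod L).obj F) :=
    isPerfect_of_iso ((LTMod.iso L).app F).symm (Groth.L10.FMBC.isPerfect_LT _
      (isPerfect_of_iso ((DerivedCategory.singleFunctorIsoCompQ A.left.Modules 0).app L)
        (PCProj.isPerfect_inD (Groth.L10.FMBC.isFinLocFree_of_invertible hL))) hFp)
  have hF'p : DCoh.IsPerfect (DCoh.toD A.left F') := isPerfect_of_iso eF'.symm hLF
  -- translation
  let t := 𝟙 At * (toUnit At ≫ α)
  haveI : IsIso t := Groth.L10.FMBC.isIso_translation α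
  haveI : IsIso t.left := inferInstanceAs (IsIso ((Over.forget _).map t))
  obtain ⟨eE⟩ := nonempty_phi_twist_translate k A At φ hφ P hP hPξ α F (PCQCoh.isQCohD_of_perfect hFp) F' eF'
  have hP' : DCoh.IsPerfect (DCoh.toD (pullback A.hom At.hom) (LTMod.S0 P)) :=
    isPerfect_of_iso ((DerivedCategory.singleFunctorIsoCompQ (pullback A.hom At.hom).Modules 0).app P)
      (PCProj.isPerfect_inD (Groth.L10.FMBC.isFinLocFree_of_invertible hP))
  haveI := Groth.L10.FMBC.lfp_of_noetherian A.hom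
  have hΦ : DCoh.IsPerfect ((FMK.phi A.hom At.hom (LTMod.S0 P)).obj (DCoh.toD A.left F')) :=
    Groth.L10.FMBC.isPerfect_phi A.hom At.hom _ hP' _ hF'p
  have hcod' := codim_of_iso t.left _ _ eE hcodim
  -- the IT(0) sheaf as a transform
  obtain ⟨N, hN, ⟨eψ⟩⟩ := exists_psi_single k A At φ hφ P hP hPξ H hH hH0 g hg
  let s := (DerivedCategory.singleFunctorIsoCompQ At.left.Modules 0).app N
  obtain ⟨p⟩ := Groth.L10.FMK.nonempty_psi_phi A.hom At.hom (LTMod.S0 P) F' hF'p (LTMod.S0 N)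
    (isPerfect_of_iso s (PCProj.isPerfect_inD hN))
  have hz := isZero_hyper_pos (g := g) hgt.le _ hΦ hcod' hN ((g : ℤ) + i) (by omega)
  obtain ⟨r⟩ := nonempty_rearrange L H hL F F' hF' eF'
  refine IsZero.of_iso ?_ ((DerivedCategory.homologyFunctor _ i).mapIso ((DCoh.RΓ A.left).mapIso r))
  refine isZero_H_LT_shift F' (DCoh.inD A.left H) (g : ℤ) i (hz.of_iso ?_)
  let Ψ := DCoh.Lpull (pullback.snd A.hom At.hom) ⋙ DCoh.LTensorCx (LTMod.S0 P) ⋙
    DCoh.Rpush (pullback.fst A.hom At.hom)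
  exact (DerivedCategory.homologyFunctor _ ((g : ℤ) + i)).mapIso
    ((DCoh.RΓ A.left).mapIso ((DCoh.LTensorCx F').mapIso (eψ.symm ≪≫ Ψ.mapIso s)) ≪≫ p)

end Groth.L29.GV
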