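import Groth.Agent.L22.ExtSh.SpecExt
import Groth.Agent.L22.ExtSh.DepthExt
import Groth.Agent.L07.RefExtend.Stalk
import Groth.Agent.L06.SupportStalk
import Groth.Agent.L06.FlatFibre
import Groth.Agent.L17.PushQCoh
import Groth.Agent.L17.Duality
import Groth.Prelude.Def_DRing2

/-!
Depth of stalks along open immersions, vanishing of Ext over a ring from the stalks, and morphisms out of a bounded
above complex of projectives into a module.
-/

set_option autoImplicit false
set_option linter.style.haveILetI false
set_option backward.defeqAttrib.useBackward true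
set_option backward.isDefEq.respectTransparency false
set_option backward.isDefEq.respectTransparency.types false

universe u

open CategoryTheory CategoryTheory.Limits CategoryTheory.Abelian AlgebraicGeometry IsLocalRing DerivedCategory

attribute [local instance] HasDerivedCategory.standard

noncomputable section

namespace Groth.L29.GV

/-- depth is preserved by semilinear bijections -/
theorem depth_semilinear {R R' M M' : Type u} [CommRing R] [IsLocalRing R] [IsNoetherianRing R]
    [CommRing R'] [IsLocalRing R'] [AddCommGroup M] [Module R M] [AddCommGroup M'] [Module R' M']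
    [Module.Finite R' M'] (e : R ≃+* R') (f : M ≃+ M') (hf : ∀ r m, f (r • m) = e r • f m) :
    LocCoh.depth R' M' = LocCoh.depth R M := by
  letI : Algebra R R' := (e : R →+* R').toAlgebra
  letI : Module R M' := Module.compHom M' (e : R →+* R')
  haveI : IsScalarTower R R' M' := ⟨fun r s m => mul_smul (e r) s m⟩
  haveI : Module.Finite R R' := Module.Finite.of_surjective (Algebra.linearMap R R') e.surjective
  let el : M ≃ₗ[R] M' := { f with map_smul' := hf }
  have h := Groth.L04.idealDepth_eq_idealDepth_map_of_finite (B := R') (maximalIdeal R) M'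
  rw [LocCoh.depth, LocCoh.depth, Groth.L04.idealDepth_congr el, h]
  congr 1
  exact (Ideal.map_eq_top_or_isMaximal_of_surjective (algebraMap R R') e.surjective
    (maximalIdeal.isMaximal R)).elim (fun h => absurd h (by
      intro h1
      have : maximalIdeal R = ⊤ := by
        rw [← Ideal.comap_map_of_bijective (e : R →+* R') e.bijective (I := maximalIdeal R),
          show (maximalIdeal R).map (e : R →+* R') = ⊤ from h1, Ideal.comap_top]
      exact (maximalIdeal.isMaximal R).ne_top this))
    (fun h => (IsLocalRing.eq_maximalIdeal h).symm)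

variable {U X : Scheme.{u}}

/-- depth of the stalks of a restriction -/
theorem depth_restrict (j : U ⟶ X) [IsOpenImmersion j] [IsLocallyNoetherian X] [IsLocallyNoetherian U]
    (M : X.Modules) (hM : Coh.IsCoh M) (u : U) :
    LocCoh.depth (U.presheaf.stalk u) ((M.restrict j).presheaf.stalk u) =
      LocCoh.depth (X.presheaf.stalk (j u)) (M.presheaf.stalk (j u)) := by
  haveI := Groth.L06.SupportStalk.finite_stalk M hM (j u)
  let e := Groth.L07.RefExtend.restrictStalkEquiv j M u
  let σ := Groth.L07.RefExtend.stalkEquiv j u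
  refine (depth_semilinear σ.symm e (fun r m => ?_)).symm
  obtain ⟨r, rfl⟩ := σ.surjective r
  rw [RingEquiv.symm_apply_apply]
  exact Groth.L07.RefExtend.restrictStalk_smul j M u r m

/-- a Cohen–Macaulay stalk of full support has depth the dimension -/
theorem depth_eq_dim [IsLocallyNoetherian X] (M : X.Modules) (hM : Coh.IsCoh M)
    (hne : ∀ x : X, Nontrivial (M.presheaf.stalk x)) (x : X)
    (hcm : LocCoh.IsCohenMacaulayModule (X.presheaf.stalk x) (M.presheaf.stalk x)) :
    ((LocCoh.depth (X.presheaf.stalk x) (M.presheaf.stalk x) : ℕ∞) : WithBot ℕ∞) =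
      ringKrullDim (X.presheaf.stalk x) := by
  rw [← hcm, Module.supportDim]
  have h : Module.support (X.presheaf.stalk x) (M.presheaf.stalk x) = Set.univ :=
    Set.eq_univ_of_forall fun Q =>
      (Groth.L06.SupportStalk.mem_support_iff M hM x Q).2 (not_subsingleton_iff_nontrivial.2 (hne _))
  rw [h]
  exact Order.krullDim_eq_of_orderIso OrderIso.Set.univ

/-- Ext over a ring vanishes below the depth of the stalks along the support -/
theorem subsingleton_ext_tilde {R : CommRingCat.{u}} [IsNoetherianRing R] (M N : ModuleCat.{u} R) [Module.Finite R M]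
    [Module.Finite R N] (n : ℕ)
    (h : ∀ p : ↥(Spec R), p ∈ CohB1.support (tilde M) →
      (n : ℕ∞) ≤ LocCoh.depth ((Spec R).presheaf.stalk p) ((tilde N).presheaf.stalk p))
    (q : ℕ) (hq : q < n) : Subsingleton (Ext M N q) := by
  haveI := Groth.L17.Duality.hasSheafHom (tilde M)
  haveI : HasInjectiveResolutions (ModSite.Mod (Spec R).sheaf) := Groth.L17.PushQCoh.hasInjectiveResolutions _
  obtain ⟨e⟩ := Groth.L22.ExtSh.nonempty_extSh_tilde M N q
  have hz := (Groth.L22.ExtSh.isZero_extSh_iff (Groth.L22.ExtSh.isCoh_tilde M) (tilde N) q).2 fun p =>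
    Groth.L22.ExtSh.subsingleton_ext_stalk_of_depth (Groth.L22.ExtSh.isCoh_tilde M) (Groth.L22.ExtSh.isCoh_tilde N)
      h p hq
  have hz' : IsZero ((tilde.functor R).obj (ModuleCat.of R (Ext M N q))) := hz.of_iso e.symm
  have h1 : IsZero (ModuleCat.of R (Ext M N q)) :=
    (IsZero.iff_id_eq_zero _).2 ((tilde.functor R).map_injective (hz'.eq_of_src _ _))
  exact ModuleCat.subsingleton_of_isZero h1

/-- morphisms out of a bounded above complex of projectives into a shifted module -/
theorem hom_inD_eq_zero {A : Type u} [CommRing A] (C : CochainComplex (ModuleCat.{u} A) ℤ) (b : ℤ)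
    [C.IsStrictlyLE b] [∀ i, Projective (C.X i)] (N : ModuleCat.{u} A) (m : ℤ)
    (h : ∀ φ : C.X m ⟶ N, C.d (m - 1) m ≫ φ = 0 → ∃ ψ, C.d m (m + 1) ≫ ψ = φ)
    (f : (DerivedCategory.Q.obj C)⟦m⟧ ⟶ (singleFunctor (ModuleCat.{u} A) 0).obj N) : f = 0 := by
  haveI : C.IsKProjective := CochainComplex.isKProjective_of_projective C b
  let c := ComplexShape.up ℤ
  let q := HomotopyCategory.quotient (ModuleCat.{u} A) c
  let L := (HomologicalComplex.single (ModuleCat.{u} A) c m).obj N
  let eN : (singleFunctor (ModuleCat.{u} A) 0).obj N ≅ (Q.obj L)⟦m⟧ :=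
    ((((singleFunctors (ModuleCat.{u} A)).shiftIso m 0 m (by omega)).app N).symm) ≪≫
      (shiftFunctor _ m).mapIso ((singleFunctorIsoCompQ (ModuleCat.{u} A) m).app N)
  obtain ⟨g, hg⟩ := (shiftFunctor (DerivedCategory (ModuleCat.{u} A)) m).map_surjective (f ≫ eN.hom)
  suffices hg0 : g = 0 by
    rw [hg0, Functor.map_zero] at hg
    rw [← cancel_mono eN.hom, zero_comp]
    exact hg.symm
  obtain ⟨χ, hχ⟩ := (CochainComplex.IsKProjective.Qh_map_bijective C (q.obj L)).2
    ((quotientCompQhIso _).hom.app C ≫ g ≫ (quotientCompQhIso _).inv.app L)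
  obtain ⟨φ, rfl⟩ := q.map_surjective χ
  suffices hφ : q.map φ = 0 by
    rw [hφ, Functor.map_zero] at hχ
    rw [← cancel_mono ((quotientCompQhIso _).inv.app L), ← cancel_epi ((quotientCompQhIso _).hom.app C),
      zero_comp, comp_zero]
    exact hχ.symm
  let x : C.X m ⟶ N := φ.f m ≫ (HomologicalComplex.singleObjXSelf c m N).hom
  obtain ⟨ψ, hψ⟩ := h x (by
    have h1 := φ.comm (m - 1) m
    have h2 : L.d (m - 1) m = 0 := (HomologicalComplex.isZero_single_obj_X c m N (m - 1) (by omega)).eq_of_src _ _
    rw [h2, comp_zero] at h1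
    simp only [x]
    rw [← Category.assoc, ← h1, zero_comp])
  let hh : ∀ i j, c.Rel j i → (C.X i ⟶ L.X j) := fun i j hij =>
    if hj : j = m then
      (C.XIsoOfEq (show i = m + 1 by simp [c] at hij; omega)).hom ≫ ψ ≫
        (HomologicalComplex.singleObjXIsoOfEq c m N j hj).inv
    else 0
  have heq : φ = Homotopy.nullHomotopicMap' hh := by
    refine HomologicalComplex.to_single_hom_ext ?_
    rw [Homotopy.nullHomotopicMap'_f (show c.Rel (m - 1) m by simp [c]) (show c.Rel m (m + 1) by simp [c])]
    have h2 : L.d (m - 1) m = 0 := (HomologicalComplex.isZero_single_obj_X c m N (m - 1) (by omega)).eq_of_src _ _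
    rw [h2, comp_zero, add_zero]
    simp [hh, reassoc_of% hψ, x, HomologicalComplex.singleObjXSelf]
  rw [← Functor.map_zero q, heq]
  exact HomotopyCategory.eq_of_homotopy _ _ (Homotopy.nullHomotopy' hh)

end Groth.L29.GV
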