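import Groth.Agent.L10.FMK.Basic
import Groth.Agent.L10.FMBC.ProjNat
import Groth.Agent.L10.FMBC.ModKernel
import Groth.Agent.L10.SerrePerf.Bidual
import Groth.Agent.Lead.FlatPerfectCx
import Groth.Agent.L29.DCoh.QCohTensor

/-!
Pairing of the two transforms against a quasi-coherent argument, and twists by inverse invertible modules.
-/

set_option autoImplicit false
set_option linter.style.haveILetI false
set_option backward.defeqAttrib.useBackward true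
set_option backward.isDefEq.respectTransparency false
set_option backward.isDefEq.respectTransparency.types false

universe u

open CategoryTheory CategoryTheory.Limits AlgebraicGeometry

attribute [local instance] HasDerivedCategory.standard

namespace Groth.L29.GV

open Groth.L00 Groth.L29.BC Groth.L29.DC

variable {X Y Z : Scheme.{u}}

set_option maxHeartbeats 800000 in
/-- `RΓ(E ⊗ Rp_*W) ≅ RΓ(Z, W ⊗ Lp^*E)` for quasi-coherent `E` and `W` -/
theorem nonempty_rGamma_pair_qc (p : Z ⟶ X) [QuasiCompact p] [QuasiSeparated p] (E : CochainComplex X.Modules ℤ)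
    (hE : DCoh.IsQCohD (DCoh.toD X E))
    [DCoh.HasLTensorCx E] [DCoh.HasRpush p] [DCoh.HasRΓ X] [DCoh.HasRΓ Z]
    (PE : CochainComplex X.Modules ℤ) (hPE : DCoh.IsKFlat PE) (e : DCoh.toD X PE ≅ DCoh.toD X E)
    [DCoh.HasLTensorCx ((Proj.pullCx p).obj PE)] (W : DCoh.D Z) (hW : DCoh.IsQCohD W) :
    Nonempty ((DCoh.RΓ X).obj ((DCoh.LTensorCx E).obj ((DCoh.Rpush p).obj W)) ≅
      (DCoh.RΓ Z).obj ((DCoh.LTensorCx ((Proj.pullCx p).obj PE)).obj W)) := by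
  haveI := Groth.L00.KFlat.hasLTensorCx PE
  haveI := QRlim.enoughKInj X
  haveI := QRlim.enoughKInj Z
  obtain ⟨c⟩ := ProjQC.nonempty_LTensorCx_congr e.symm
  obtain ⟨τ, hτ⟩ := Groth.L10.FMBC.exists_projection p PE hPE (isQCohD_of_iso e.symm hE)
  haveI := hτ W hW
  obtain ⟨g⟩ := Groth.L00.KLimp.nonempty_RΓ_Rpush p
  exact ⟨(DCoh.RΓ X).mapIso (c.app _ ≪≫ asIso (τ.app W)) ≪≫ g.app _⟩

set_option maxHeartbeats 1600000 in
/-- the pairing of the two transforms of a perfect and a quasi-coherent object -/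
theorem nonempty_psi_phi_qc {S : Scheme.{u}} (a : X ⟶ S) (b : Y ⟶ S) [QuasiCompact (pullback.snd a b)]
    [QuasiSeparated (pullback.snd a b)]
    (P : CochainComplex (pullback a b).Modules ℤ) (hP : DCoh.IsQCohD (DCoh.toD (pullback a b) P))
    [DCoh.HasLpull (pullback.fst a b)] [DCoh.HasLpull (pullback.snd a b)] [DCoh.HasLTensorCx P]
    [DCoh.HasRpush (pullback.fst a b)] [DCoh.HasRpush (pullback.snd a b)]
    [DCoh.HasRΓ X] [DCoh.HasRΓ Y]
    (E : CochainComplex X.Modules ℤ) (hE : DCoh.IsPerfect (DCoh.toD X E)) [DCoh.HasLTensorCx E]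
    (F : CochainComplex Y.Modules ℤ) (hF : DCoh.IsQCohD (DCoh.toD Y F)) [DCoh.HasLTensorCx F] :
    Nonempty ((DCoh.RΓ X).obj ((DCoh.LTensorCx E).obj
        ((DCoh.Lpull (pullback.snd a b) ⋙ DCoh.LTensorCx P ⋙ DCoh.Rpush (pullback.fst a b)).obj (DCoh.toD Y F))) ≅
      (DCoh.RΓ Y).obj ((DCoh.LTensorCx F).obj ((FMK.phi a b P).obj (DCoh.toD X E)))) := by
  haveI := fun {V : Scheme.{u}} (E : CochainComplex V.Modules ℤ) => Groth.L00.KFlat.hasLTensorCx E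
  haveI := QRlim.enoughKInj (pullback a b)
  haveI : DCoh.HasRΓ (pullback a b) := Groth.L10.KInjDerived.hasRightDerivedFunctor _
  let p := pullback.fst a b
  let q := pullback.snd a b
  obtain ⟨PE, rE, hPE, -, hrE, -⟩ := Groth.L00.KFlat.exists_resolution E
  obtain ⟨PF, rF, hPF, -, hrF, -⟩ := Groth.L00.KFlat.exists_resolution F
  obtain ⟨PP, rP, hPP, -, hrP, -⟩ := Groth.L00.KFlat.exists_resolution P
  haveI := (DerivedCategory.isIso_Q_map_iff_quasiIso _ rE).2 hrE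
  haveI := (DerivedCategory.isIso_Q_map_iff_quasiIso _ rF).2 hrF
  haveI := (DerivedCategory.isIso_Q_map_iff_quasiIso _ rP).2 hrP
  obtain ⟨eE⟩ : Nonempty (DCoh.toD X PE ≅ DCoh.toD X E) := ⟨asIso (DerivedCategory.Q.map rE)⟩
  obtain ⟨eF⟩ : Nonempty (DCoh.toD Y PF ≅ DCoh.toD Y F) := ⟨asIso (DerivedCategory.Q.map rF)⟩
  obtain ⟨cP⟩ := ProjQC.nonempty_LTensorCx_congr (asIso (DerivedCategory.Q.map rP)).symm
  obtain ⟨l₁⟩ : Nonempty ((DCoh.Lpull p).obj (DCoh.toD X E) ≅ DCoh.toD _ ((Proj.pullCx p).obj PE)) :=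
    ⟨(DCoh.Lpull p).mapIso eE.symm ≪≫
      Groth.L00.DerivedApi.objIso (Groth.L00.DerivedApi.acyclicKFlat_pullback p) PE hPE⟩
  obtain ⟨l₂⟩ : Nonempty ((DCoh.Lpull q).obj (DCoh.toD Y F) ≅ DCoh.toD _ ((Proj.pullCx q).obj PF)) :=
    ⟨(DCoh.Lpull q).mapIso eF.symm ≪≫
      Groth.L00.DerivedApi.objIso (Groth.L00.DerivedApi.acyclicKFlat_pullback q) PF hPF⟩
  obtain ⟨g₁⟩ := Groth.L10.FMK.nonempty_rGamma_pair p E hE PE hPE eE
    ((DCoh.LTensorCx P).obj ((DCoh.Lpull q).obj (DCoh.toD Y F)))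
  obtain ⟨g₂⟩ := nonempty_rGamma_pair_qc q F hF PF hPF eF ((DCoh.LTensorCx P).obj ((DCoh.Lpull p).obj (DCoh.toD X E)))
    (isQCohD_LTensorCx P hP (isQCohD_Lpull p (PCQCoh.isQCohD_of_perfect hE)))
  obtain ⟨r⟩ := Groth.L10.FMK.nonempty_rot ((Proj.pullCx q).obj PF) PP ((Proj.pullCx p).obj PE)
    (Groth.L00.KFlat.pullback_kflat q PF hPF) hPP (Groth.L00.KFlat.pullback_kflat p PE hPE)
  exact ⟨g₁ ≪≫ (DCoh.RΓ (pullback a b)).mapIso
      ((DCoh.LTensorCx _).mapIso (cP.app _ ≪≫ (DCoh.LTensorCx PP).mapIso l₂) ≪≫ r ≪≫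
        ((DCoh.LTensorCx _).mapIso (cP.app _ ≪≫ (DCoh.LTensorCx PP).mapIso l₁)).symm) ≪≫ g₂.symm⟩

/-- twisting by inverse invertible modules is the identity -/
theorem nonempty_twist_inverse {A B : X.Modules} (hA : PicF.IsInvertible A) (hB : PicF.IsInvertible B)
    (e : CohB1.tensorMod A B ≅ Coh.structureModule X)
    [DCoh.HasLTensorCx (Groth.Lead.LTMod.S0 A)] [DCoh.HasLTensorCx (Groth.Lead.LTMod.S0 B)] :
    Nonempty (DCoh.LTensorCx (Groth.Lead.LTMod.S0 A) ⋙ DCoh.LTensorCx (Groth.Lead.LTMod.S0 B) ≅ 𝟭 (DCoh.D X)) := by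
  haveI := fun (E : CochainComplex X.Modules ℤ) => KFlat.hasLTensorCx E
  obtain ⟨a⟩ := Groth.L10.FMBC.nonempty_assocD _ _ (Groth.L10.FMBC.isKFlat_S0 hA) (Groth.L10.FMBC.isKFlat_S0 hB)
  obtain ⟨t⟩ := Groth.L10.FMBC.nonempty_singleTensor A B
  obtain ⟨o⟩ := EvalMain.nonempty_O0_iso (X := X)
  obtain ⟨c⟩ := ProjQC.nonempty_LTensorCx_congr (B := RHom.O0 X)
    (DerivedCategory.Q.mapIso (t ≪≫ (HomologicalComplex.single X.Modules (ComplexShape.up ℤ) 0).mapIso e) ≪≫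
      ((DerivedCategory.singleFunctorIsoCompQ X.Modules 0).app (Coh.structureModule X)).symm ≪≫ o.symm)
  exact ⟨a ≪≫ c ≪≫ Groth.L10.SerrePerf.ltUnitIso⟩

/-- tensoring with a shifted complex -/
theorem nonempty_LT_shiftCx (E : CochainComplex X.Modules ℤ) (m : ℤ) (K : DCoh.D X)
    [DCoh.HasLTensorCx E] [DCoh.HasLTensorCx (E⟦m⟧)] :
    Nonempty ((DCoh.LTensorCx (E⟦m⟧)).obj K ≅ ((DCoh.LTensorCx E).obj K)⟦m⟧) := by
  let A := DerivedCategory.Q.objPreimage K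
  let P := (KFlat.RF X).obj A
  haveI : QuasiIso ((KFlat.rF X).app A) := KFlat.quasiIso_rF A
  let eP : DCoh.toD X P ≅ K := asIso (DerivedCategory.Q.map ((KFlat.rF X).app A)) ≪≫ DerivedCategory.Q.objObjPreimageIso K
  haveI := KFlat.hasLTensorCx P
  obtain ⟨c⟩ := Groth.Lead.FlatPerfect.nonempty_LTensorCx_comm (E⟦m⟧) P (KFlat.isKFlat_RF A)
  obtain ⟨c'⟩ := Groth.Lead.FlatPerfect.nonempty_LTensorCx_comm E P (KFlat.isKFlat_RF A)
  obtain ⟨s⟩ := Groth.Lead.FlatPerfect.nonempty_LTensorCx_shift P (KFlat.isKFlat_RF A) E m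
  exact ⟨(DCoh.LTensorCx _).mapIso eP.symm ≪≫ c ≪≫ s ≪≫
    (shiftFunctor _ m).mapIso (c'.symm ≪≫ (DCoh.LTensorCx E).mapIso eP)⟩

end Groth.L29.GV
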