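import Groth.Agent.S14147
import Groth.Agent.L10.FMK.Loci
import Groth.Agent.L10.FMBC.Equiv
import Groth.Agent.L10.RDerTri
import Groth.Agent.L29.GV.FibreAmp
import Groth.Agent.L29.GV.FibreVanish
import Groth.Agent.L29.DCoh.FibreLocus
import Groth.Agent.Lead.TwistEquiv

/-!
Fibre Betti numbers of a Fourier–Mukai transform at rational points.
-/

set_option autoImplicit false
set_option linter.style.haveILetI false
set_option backward.defeqAttrib.useBackward true
set_option backward.isDefEq.respectTransparency false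
set_option backward.isDefEq.respectTransparency.types false

universe u

open CategoryTheory CategoryTheory.Limits MonoidalCategory CartesianMonoidalCategory MonObj GrpObj AlgebraicGeometry

attribute [local instance] HasDerivedCategory.standard

noncomputable section

namespace Groth.L29.GV

open Groth.L00 Groth.L29.DC Groth.L29.DC.Fib

/-- Betti numbers at a field valued point -/
theorem betti_eq_zero_of_gamma {Z X : Scheme.{u}} [IsLocallyNoetherian X] [Subsingleton Z] (g : Z ⟶ X)
    [DCoh.HasLpull g] (z : Z) (hK : IsField (Z.presheaf.stalk z)) (E : DCoh.D X) (hE : DCoh.IsPerfect E)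
    [DCoh.HasLpull (X.fromSpecResidueField (g z))] (k : ℤ) (h : IsZero (DCoh.HD ((DCoh.Lpull g).obj E) k)) :
    PerfD.betti E (g z) k = 0 := by
  rw [← bfib_eq_betti g z hK E hE k]
  haveI := ModuleCat.subsingleton_of_isZero ((Groth.L00.Stk.F Z z).map_isZero h)
  exact Module.finrank_zero_of_subsingleton

/-- a derived tensor product with a locally free module on a module -/
theorem nonempty_ltm_single {X : Scheme.{u}} (L M : X.Modules) (hL : FlatMod.IsFinLocFree L)
    [DCoh.HasLTensorMod L] :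
    Nonempty ((DCoh.LTensorMod L).obj (DCoh.inD X M) ≅ DCoh.inD X (CohB1.tensorMod M L)) := by
  haveI := (Groth.L16.Rees.PushExact.exact_instances hL).1
  haveI := (Groth.L16.Rees.PushExact.exact_instances hL).2
  exact ⟨(Groth.Lead.TwistEquiv.ltIso L hL).app _ ≪≫
    ((DCoh.tensorRightMod L).mapDerivedCategorySingleFunctor 0).app M⟩

/-- hypercohomology of a module in degree zero -/
theorem isZero_H_inD {X : Scheme.{u}} [DCoh.HasRΓ X] (M : X.Modules) (j : ℤ)
    (h : ∀ i : ℕ, (i : ℤ) = j → 1 ≤ i ∧ Subsingleton (Coh.HH X M i)) :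
    IsZero ((DerivedCategory.homologyFunctor AddCommGrpCat.{u} j).obj ((DCoh.RΓ X).obj (DCoh.inD X M))) := by
  haveI := QRlim.enoughKInj X
  haveI : EnoughInjectives X.Modules := (Groth.L10.ModRDer.insts X.sheaf).1
  haveI : HasInjectiveResolutions X.Modules := inferInstance
  let α := (DCoh.gammaKh X).totalRightDerivedUnit DerivedCategory.Qh (HomotopyCategory.quasiIso X.Modules (ComplexShape.up ℤ))
  obtain ⟨hge, hp⟩ := Groth.L10.RDerTri.isGE_single (F := DCoh.gammaAb X) α M
  by_cases hj : j < 0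
  · exact DerivedCategory.isZero_of_isGE _ 0 j hj
  obtain ⟨i, rfl⟩ : ∃ i : ℕ, j = i := ⟨j.toNat, by omega⟩
  obtain ⟨h1, h2⟩ := h i rfl
  obtain ⟨p, rfl⟩ : ∃ p, i = p + 1 := ⟨i - 1, by omega⟩
  exact (Groth.L10.FMK.isZero_gamma_rightDerived p M h2).of_iso (hp (p + 1)).some

variable (k : Type u) [Field k]
    (A At : Over (Spec (CommRingCat.of k))) [GrpObj A] [IsProper A.hom] [Smooth A.hom] [GeometricallyConnected A.hom]
    [GrpObj At] [IsProper At.hom] [Smooth At.hom] [GeometricallyConnected At.hom]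
    (φ : ∀ T : Over (Spec (CommRingCat.of k)), PicF.Cl (PicF.XT A.hom T) → (T ⟶ At))
    (hφ : AbDual.IsDualAV Scheme.fppfPrecoverage A At φ)
    (P : (pullback A.hom At.hom).Modules) (hP : PicF.IsInvertible P)
    (hPξ : AbDual.IsPoincareCl A At φ (PicF.cl P))
    [DCoh.HasLpull (pullback.fst A.hom At.hom)] [DCoh.HasLTensorMod P] [DCoh.HasRpush (pullback.snd A.hom At.hom)]

include hP in
/-- the transform with a module kernel preserves perfect objects -/
theorem isPerfect_phiMod (G : DCoh.D A.left) (hG : DCoh.IsPerfect G) :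
    DCoh.IsPerfect ((DCoh.Lpull (pullback.fst A.hom At.hom) ⋙ DCoh.LTensorMod P ⋙
      DCoh.Rpush (pullback.snd A.hom At.hom)).obj G) := by
  haveI := KFlat.hasLTensorCx (Groth.Lead.LTMod.S0 P)
  haveI := Groth.L10.FMBC.lfp_of_noetherian A.hom
  have hk : DCoh.IsPerfect (DCoh.toD (pullback A.hom At.hom) (Groth.Lead.LTMod.S0 P)) :=
    isPerfect_of_iso ((DerivedCategory.singleFunctorIsoCompQ (pullback A.hom At.hom).Modules 0).app P)
      (Groth.Lead.PCProj.isPerfect_inD (Groth.L10.FMBC.isFinLocFree_of_invertible hP))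
  let V := (DCoh.Lpull (pullback.fst A.hom At.hom)).obj G
  have hp : DCoh.IsPerfect ((DCoh.Rpush (pullback.snd A.hom At.hom)).obj
      ((DCoh.LTensorCx (Groth.Lead.LTMod.S0 P)).obj V)) :=
    Groth.L10.FMBC.isPerfect_phi A.hom At.hom (Groth.Lead.LTMod.S0 P) hk G hG
  exact isPerfect_of_iso ((DCoh.Rpush (pullback.snd A.hom At.hom)).mapIso
    ((Groth.Lead.LTMod.iso P).symm.app V)) hp

include hφ hP hPξ in
set_option maxHeartbeats 800000 in
/-- at a rational point the Betti numbers of the transform are hypercohomology -/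
theorem betti_eq_zero_of_hyper (G : DCoh.D A.left) (hG : DCoh.IsPerfect G)
    (α : 𝟙_ (Over (Spec (CommRingCat.of k))) ⟶ At) (p : ↥(𝟙_ (Over (Spec (CommRingCat.of k)))).left)
    [DCoh.HasLTensorMod ((Scheme.Modules.pullback (CartesianMonoidalCategory.lift (𝟙 A) (toUnit A ≫ α)).left).obj P)]
    [DCoh.HasRΓ A.left] [∀ y : At.left, DCoh.HasLpull (At.left.fromSpecResidueField y)] (j : ℤ)
    (h : IsZero ((DerivedCategory.homologyFunctor AddCommGrpCat.{u} j).obj ((DCoh.RΓ A.left).obj
      ((DCoh.LTensorMod ((Scheme.Modules.pullback (CartesianMonoidalCategory.lift (𝟙 A) (toUnit A ≫ α)).left).obj P)).obj G)))) :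
    PerfD.betti ((DCoh.Lpull (pullback.fst A.hom At.hom) ⋙ DCoh.LTensorMod P ⋙
      DCoh.Rpush (pullback.snd A.hom At.hom)).obj G) (α.left p) j = 0 := by
  haveI := fun {A B : Scheme.{u}} (f : A ⟶ B) => KFlat.hasLpull f
  haveI := fun {A B : Scheme.{u}} (f : A ⟶ B) => RpushQC.hasRpush f
  haveI : Subsingleton (𝟙_ (Over (Spec (CommRingCat.of k)))).left := inferInstanceAs (Subsingleton (PrimeSpectrum k))
  haveI := QRlim.enoughKInj (Spec (CommRingCat.of k))
  haveI : DCoh.HasRΓ (Spec (CommRingCat.of k)) := Groth.L10.KInjDerived.hasRightDerivedFunctor _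
  haveI : IsLocallyNoetherian At.left := LocallyOfFiniteType.isLocallyNoetherian At.hom
  let E := (DCoh.Lpull (pullback.fst A.hom At.hom) ⋙ DCoh.LTensorMod P ⋙
      DCoh.Rpush (pullback.snd A.hom At.hom)).obj G
  have hE : DCoh.IsPerfect E := isPerfect_phiMod k A At P hP G hG
  obtain ⟨e⟩ := Groth.Agent.S14147.result k A At φ hφ P hP hPξ α
  obtain ⟨g⟩ := Groth.L00.KLimp.nonempty_RΓ_Rpush A.hom
  let W := (DCoh.LTensorMod ((Scheme.Modules.pullback
    (CartesianMonoidalCategory.lift (𝟙 A) (toUnit A ≫ α)).left).obj P)).obj G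
  let ι₀ : (DCoh.Rpush A.hom).obj W ≅ (DCoh.Lpull α.left).obj E := e.app ⟨G, PCQCoh.isQCohD_of_perfect hG⟩
  haveI : IsLocallyNoetherian (𝟙_ (Over (Spec (CommRingCat.of k)))).left :=
    inferInstanceAs (IsLocallyNoetherian (Spec (CommRingCat.of k)))
  obtain ⟨hpt⟩ := Groth.L10.FMK.nonempty_H_point (X := Spec (CommRingCat.of k)) ((DCoh.Lpull α.left).obj E)
    (isPerfect_Lpull _ hE) j
  have hz : IsZero (DCoh.HD ((DCoh.Lpull α.left).obj E) j) :=
    isZero_of_gammaAb (Field.toIsField k) _ (h.of_iso (hpt.symm ≪≫ (DerivedCategory.homologyFunctor _ j).mapIso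
      ((DCoh.RΓ (Spec (CommRingCat.of k))).mapIso ι₀.symm ≪≫ g.app W)))
  refine betti_eq_zero_of_gamma α.left p ?_ E hE j hz
  exact MulEquiv.isField (Field.toIsField k)
    ((RingEquiv.ofBijective _ (germ_top_bijective_ring (Z := Spec (CommRingCat.of k)) p)).symm.trans
      (Scheme.ΓSpecIso (CommRingCat.of k)).commRingCatIsoToRingEquiv).toMulEquiv

end Groth.L29.GV
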