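import Groth.Agent.L29.GV.PairQC
import Groth.Agent.L29.RelPC.FlatPull
import Groth.Agent.L29.BCAdj.HomFlatPC
import Groth.Agent.L10.FMBC.ProjNat
import Groth.Agent.Lead.PCProjBasic

/-!
Twisting a locally free kernel by the pullback of a quasi-coherent module along a flat projection.
-/

set_option autoImplicit false
set_option linter.style.haveILetI false
set_option backward.defeqAttrib.useBackward true
set_option backward.isDefEq.respectTransparency false
set_option backward.isDefEq.respectTransparency.types false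

universe u

open CategoryTheory CategoryTheory.Limits AlgebraicGeometry

attribute [local instance] HasDerivedCategory.standard

noncomputable section

namespace Groth.L29.GV

open Groth.L00 Groth.L29.DC Groth.L29.BCAdj

variable {X Y S : Scheme.{u}}

set_option maxHeartbeats 1600000 in
theorem nonempty_phi_twist (a : X ⟶ S) (b : Y ⟶ S) [QuasiCompact (pullback.snd a b)]
    [QuasiSeparated (pullback.snd a b)] [Flat (pullback.snd a b)]
    [DCoh.HasLpull (pullback.fst a b)] [DCoh.HasRpush (pullback.snd a b)]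
    (A : (pullback a b).Modules) (hA : FlatMod.IsFinLocFree A) [DCoh.HasLTensorCx (Groth.Lead.LTMod.S0 A)]
    (ω : Y.Modules) [Coh.IsQCoh ω]
    [DCoh.HasLTensorCx (Groth.Lead.LTMod.S0 (CohB1.tensorMod A ((Scheme.Modules.pullback (pullback.snd a b)).obj ω)))]
    (W : CochainComplex Y.Modules ℤ) (hW : DCoh.IsKFlat W) [DCoh.HasLTensorCx W]
    (e : DCoh.toD Y W ≅ DCoh.inD Y ω)
    (M : DCoh.D X) (hM : DCoh.IsQCohD M) :
    Nonempty ((FMK.phi a b
        (Groth.Lead.LTMod.S0 (CohB1.tensorMod A ((Scheme.Modules.pullback (pullback.snd a b)).obj ω)))).obj M ≅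
      (DCoh.LTensorCx W).obj ((FMK.phi a b (Groth.Lead.LTMod.S0 A)).obj M)) := by
  haveI := fun {A B : Scheme.{u}} (f : A ⟶ B) => KFlat.hasLpull f
  haveI := fun {V : Scheme.{u}} (E : CochainComplex V.Modules ℤ) => KFlat.hasLTensorCx E
  let q := pullback.snd a b
  let B := (Scheme.Modules.pullback q).obj ω
  let SA := Groth.Lead.LTMod.S0 A
  let SB := Groth.Lead.LTMod.S0 B
  let W' := (Proj.pullCx q).obj W
  have hW' : DCoh.IsKFlat W' := KFlat.pullback_kflat q W hW
  haveI := RelPC.additive_pullback q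
  haveI := RelPC.preservesFiniteColimits_pullback q
  haveI := RelPC.preservesFiniteLimits_pullback q
  obtain ⟨f⟩ := RelPC.nonempty_Lpull_flat q (DCoh.inD Y ω)
  let eB : DCoh.toD (pullback a b) W' ≅ DCoh.toD (pullback a b) SB :=
    (DerivedApi.objIso (DerivedApi.acyclicKFlat_pullback q) W hW).symm ≪≫ (DCoh.Lpull q).mapIso e ≪≫ f ≪≫
      ((Scheme.Modules.pullback q).mapDerivedCategorySingleFunctor 0).app ω ≪≫
      (DerivedCategory.singleFunctorIsoCompQ (pullback a b).Modules 0).app B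
  have hSA : DCoh.IsKFlat SA := KFlat.single _ (isFlat_of_isFinLocFree hA) 0
  obtain ⟨t⟩ := Groth.L10.FMBC.nonempty_singleTensor A B
  let eK : DCoh.toD (pullback a b) ((DCoh.tensorCx.obj SA).obj W') ≅
      DCoh.toD (pullback a b) (Groth.Lead.LTMod.S0 (CohB1.tensorMod A B)) :=
    DerivedCategory.Q.mapIso (KFlat.commIso W' SA) ≪≫ ((Assoc.allIso SA hSA).app W').symm ≪≫
      (DCoh.LTensorCx SA).mapIso eB ≪≫ (Assoc.allIso SA hSA).app SB ≪≫
      DerivedCategory.Q.mapIso (KFlat.commIso SA SB ≪≫ t)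
  obtain ⟨c⟩ := Groth.L29.BC.ProjQC.nonempty_LTensorCx_congr eK
  obtain ⟨as⟩ := Groth.L10.FMBC.nonempty_assocD SA W' hSA hW'
  have hWq : DCoh.IsQCohD (DCoh.toD Y W) :=
    isQCohD_of_iso e.symm (Groth.Lead.LTMod.isQCohD_inD_of inferInstance)
  have hAq : DCoh.IsQCohD (DCoh.toD (pullback a b) SA) :=
    isQCohD_of_iso ((DerivedCategory.singleFunctorIsoCompQ (pullback a b).Modules 0).app A)
      (Groth.Lead.LTMod.isQCohD_inD_of (PCQCoh.isQCoh_of_isFinLocFree hA))
  obtain ⟨τ, hτ⟩ := Groth.L10.FMBC.exists_projection q W hW hWq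
  haveI := hτ _ (isQCohD_LTensorCx SA hAq (isQCohD_Lpull (pullback.fst a b) hM))
  exact ⟨(DCoh.Rpush q).mapIso ((as ≪≫ c).app ((DCoh.Lpull (pullback.fst a b)).obj M)).symm ≪≫
    (asIso (τ.app ((DCoh.LTensorCx SA).obj ((DCoh.Lpull (pullback.fst a b)).obj M)))).symm⟩

end Groth.L29.GV
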